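import Cfsg.Agent.Lib.AltTwelveCent.Fusion

/-
The interface of the alternating case.

* `ncode` : the code of a permutation of `n` points, read on the first twelve
* `zAlt n` : the image of a point under the fixed-point-free involution of the first twelve points
* `uList` : generators of the flips of an even number of the pairs 2, 3, 4, 5
* `Coding.AltEmb` : what the alternating case gives to the closing step
-/

set_option autoImplicit false

namespace Cfsg.Agent.AltTwelveCent

open Equiv

/-- The code of a permutation, read on the first twelve points. -/
def ncode {n : ℕ} (p : Perm (Fin n)) : ℕ := ofFun fun i => if h : i < n then (p ⟨i, h⟩).val else 0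

/-- The involution of the first twelve points, on numbers. -/
def zPt (i : ℕ) : ℕ := if i < 12 then i ^^^ 1 else i

/-- A permutation commutes with the involution. -/
def CommutesZ {n : ℕ} (p : Perm (Fin n)) : Prop :=
  ∀ i j : Fin n, j.val = zPt i.val → (p j).val = zPt (p i).val

/-- Generators of the flips of an even number of the pairs 2, 3, 4, 5. -/
def uList : List ℕ := [mkH [0, 2, 5, 7, 8, 10], mkH [0, 2, 5, 6, 9, 10], mkH [0, 2, 5, 6, 8, 11]]

/-- An embedded alternating group containing the centraliser of `z`, with the centraliser of the flips. -/
def Coding.AltEmb {G : Type*} [Group G] {z : G} (c : Coding z) (n : ℕ) : Prop :=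
  ∃ φ : ↥(alternatingGroup (Fin n)) →* G, Function.Injective φ ∧
    (∀ p : ↥(alternatingGroup (Fin n)), CommutesZ (p : Perm (Fin n)) → φ p = c.el (ncode (p : Perm (Fin n)))) ∧
    (∀ g : G, (∀ d ∈ uList, Commute g (c.el d)) → g ∈ φ.range) ∧
    (n = 12 → ∀ g : G, (∀ d ∈ uList, Commute g (c.el d)) → orderOf g ≠ 5)

theorem inH_uList : ∀ d ∈ uList, inH d = true := by decide +kernel

end Cfsg.Agent.AltTwelveCent
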