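import Cfsg.Agent.Lib.AltTwelveCent.Code
import Cfsg.Agent.Lib.AltTwelveCent.SylowData

/-
Certificate check: the centre of the centraliser has order two.
-/

set_option autoImplicit false
set_option maxRecDepth 20000

namespace Cfsg.Agent.AltTwelveCent

/-- Elements whose centralisers in the coded group meet in the centre. -/
def centreGens : List ℕ := sylGens ++ [mkH [2, 4, 0, 6, 8, 10], mkH [0, 2, 6, 8, 4, 10], mkH [1, 2, 4, 6, 8, 11]]

theorem check_centreGens : centreGens.all inH = true := by decide +kernel

theorem check_centre : (elts.all fun d => !(centreGens.all fun g => comm d g) || d == one || d == zc) = true := by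
  decide +kernel

theorem check_length : elts.length = 23040 := by decide +kernel

end Cfsg.Agent.AltTwelveCent
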