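import Cfsg.Agent.Lib.AltTwelveCent.Code
import Cfsg.Agent.Lib.AltTwelveCent.ClassData
import Cfsg.Agent.Lib.AltTwelveCent.SylowData

/-
Certificate checks on the Sylow 2-subgroup and the distinguished subgroup `W`.

* `check_tree`, `check_closed` : the listed 512 codes are the subgroup of the four generators
* `check_only_w` : no other elementary abelian subgroup of order 64
* `check_w` : `W` is elementary abelian
-/

set_option autoImplicit false
set_option maxRecDepth 20000

namespace Cfsg.Agent.AltTwelveCent

/-- The codes of the Sylow subgroup. -/
def sylList : List ℕ := one :: sylTree.map fun p => p.1

theorem check_sylGens : sylGens.all inH = true := by decide +kernel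

/-- Each entry is a product of an earlier one and a generator. -/
def treeOK : List ℕ → List (ℕ × ℕ × ℕ) → Bool
  | _, [] => true
  | acc, (x, p, k) :: rest =>
    p < acc.length && k < sylGens.length && x == mul (acc.getD p 0) (sylGens.getD k 0) && treeOK (acc ++ [x]) rest

theorem check_tree : treeOK [one] sylTree = true := by decide +kernel

theorem check_closed : (sylList.all fun d => sylGens.all fun g => sylList.contains (mul d g)) = true := by
  decide +kernel

theorem check_nodup : sylList.Nodup := by decide +kernel

theorem check_length_syl : sylList.length = 512 := by decide +kernel

/-- The involutions of the Sylow subgroup. -/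
def sylInv : List ℕ := sylList.filter isInv

/-- Elements commuting with a given one. -/
def commList (x : ℕ) : List ℕ := sylInv.filter fun y => comm x y

/-- Too few involutions commute with `x`, or just enough and not pairwise. -/
def onlyOK (x : ℕ) : Bool :=
  wlist.contains x ||
    let L := commList x
    L.length < 63 || (L.length == 63 && L.any fun a => L.any fun b => !comm a b)

theorem check_only_w : sylInv.all onlyOK = true := by decide +kernel

theorem check_w : (wlist.all fun a => inH a && mul a a == one && sylList.contains a &&
    wlist.all fun b => comm a b) = true := by decide +kernel

theorem check_w_mul : ((List.range 64).all fun i => (List.range 64).all fun j =>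
    mul (wlist.getD i 0) (wlist.getD j 0) == wlist.getD (i ^^^ j) 0) = true := by decide +kernel

theorem check_w_nodup : wlist.Nodup ∧ wlist.length = 64 ∧ wlist.getD 21 0 = zc ∧ wlist.getD 0 0 = one := by
  decide +kernel

end Cfsg.Agent.AltTwelveCent
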