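import Cfsg.Agent.Lib.AltTwelveCent.Coding
import Cfsg.Agent.Lib.AltTwelveCent.CheckCentre
import Cfsg.Agent.Lib.AltTwelveCent.CheckSylow
import Mathlib.GroupTheory.Sylow
import Mathlib.Tactic.Group

/-
A finite group with an involution whose centraliser is coded and has odd index.

* `Coding.el` : the element of a code
* `exists_coding` : the coding from an isomorphism of centralisers
* `sylT`, `wgp` : a Sylow 2-subgroup and the subgroup `W` of order 64
* `exists_normalizer_conj` : the normaliser of `W` controls the fusion in `W`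
-/

set_option autoImplicit false

namespace Cfsg.Agent.AltTwelveCent

open Equiv

/-- A coding of the centraliser of `α` from an isomorphism with the centraliser in `A₁₂`. -/
theorem exists_coding {G : Type*} [Group G] {α : G} (hα : orderOf α = 2)
    (e : ↥(Subgroup.centralizer ({α} : Set G)) ≃*
      ↥(alternatingGroup (Fin 12) ⊓ Subgroup.centralizer ({z0} : Set (Perm (Fin 12))))) :
    Nonempty (Coding α) := by
  classical
  have hin : ∀ {a : G}, Commute a α → a ∈ Subgroup.centralizer ({α} : Set G) := fun ha =>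
    Subgroup.mem_centralizer_singleton_iff.2 ha
  have hz : ∀ x : ↥(alternatingGroup (Fin 12) ⊓ Subgroup.centralizer ({z0} : Set (Perm (Fin 12)))),
      (x : Perm (Fin 12)) * z0 = z0 * x := fun x => Subgroup.mem_centralizer_singleton_iff.1 x.2.2
  let f : G → ℕ := fun a => if h : Commute a α then pcode (e ⟨a, hin h⟩ : Perm (Fin 12)) else 0
  have hf : ∀ a (h : Commute a α), f a = pcode (e ⟨a, hin h⟩ : Perm (Fin 12)) := fun a h => dif_pos h
  have hmem : ∀ a, Commute a α → inH (f a) = true := fun a h => by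
    rw [hf a h]; exact inH_pcode (e ⟨a, hin h⟩).2.1 (hz _)
  have hmul : ∀ a b, Commute a α → Commute b α → f (a * b) = mul (f a) (f b) := by
    intro a b ha hb
    rw [hf a ha, hf b hb, hf _ (ha.mul_left hb), ← pcode_mul, ← Subgroup.coe_mul, ← _root_.map_mul e]
    rfl
  have hinj : ∀ a b, Commute a α → Commute b α → f a = f b → a = b := by
    intro a b ha hb h
    rw [hf a ha, hf b hb] at h
    exact congrArg Subtype.val (e.injective (Subtype.ext (pcode_inj h)))
  have hsurj : ∀ d, inH d = true → ∃ a, Commute a α ∧ f a = d := by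
    intro d hd
    obtain ⟨p, hA, hp, rfl⟩ := exists_of_mem hd
    set y := e.symm ⟨p, hA, Subgroup.mem_centralizer_singleton_iff.2 hp⟩ with hy
    have hya : Commute (y : G) α := Subgroup.mem_centralizer_singleton_iff.1 y.2
    refine ⟨y, hya, ?_⟩
    rw [hf _ hya]
    simp [hy]
  refine ⟨⟨f, hmem, hmul, hinj, hsurj, ?_⟩⟩
  have h1 : f 1 = one := by
    rw [hf 1 (Commute.one_left α), show (⟨1, hin (Commute.one_left α)⟩ :
      ↥(Subgroup.centralizer ({α} : Set G))) = 1 from rfl, map_one]
    decide +kernel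
  have hc := List.all_eq_true.1 check_centre (f α) (mem_elts (hmem α (Commute.refl α)))
  have hall : (centreGens.all fun g => comm (f α) g) = true := by
    refine List.all_eq_true.2 fun d hd => ?_
    obtain ⟨a, ha, rfl⟩ := hsurj d (List.all_eq_true.1 check_centreGens d hd)
    rw [comm, beq_iff_eq, ← hmul _ _ (Commute.refl α) ha, ← hmul _ _ ha (Commute.refl α), ha.eq]
  rw [hall] at hc
  simp only [Bool.not_true, Bool.false_or, Bool.or_eq_true, beq_iff_eq] at hc
  refine hc.resolve_left fun hid => ?_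
  have := hinj α 1 (Commute.refl α) (Commute.one_left α) (hid.trans h1.symm)
  rw [this, orderOf_one] at hα
  omega

variable {G : Type*} [Group G] {z : G}

theorem wlist_getD_mem {i : ℕ} (hi : i < 64) : wlist.getD i 0 ∈ wlist := by
  rw [List.getD_eq_getElem _ _ (by rw [check_w_nodup.2.1]; exact hi)]
  exact List.getElem_mem _

theorem wlist_facts {d : ℕ} (hd : d ∈ wlist) :
    inH d = true ∧ mul d d = one ∧ d ∈ sylList ∧ ∀ b ∈ wlist, comm d b = true := by
  have := List.all_eq_true.1 check_w d hd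
  simp only [Bool.and_eq_true, beq_iff_eq, List.contains_iff_mem, List.all_eq_true] at this
  exact ⟨this.1.1.1, this.1.1.2, this.1.2, this.2⟩

namespace Coding

variable (c : Coding z)
include c

/-- The element of a code. -/
noncomputable def el (d : ℕ) : G := if h : inH d = true then (c.surj d h).choose else 1

theorem el_spec {d : ℕ} (h : inH d = true) : Commute (c.el d) z ∧ c.f (c.el d) = d := by
  rw [el, dif_pos h]
  exact (c.surj d h).choose_spec

theorem el_comm (d : ℕ) : Commute (c.el d) z := by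
  by_cases h : inH d = true
  · exact (c.el_spec h).1
  · rw [el, dif_neg h]; exact Commute.one_left z

theorem el_f {a : G} (ha : Commute a z) : c.el (c.f a) = a :=
  c.inj _ _ (c.el_comm _) ha (c.el_spec (c.mem a ha)).2

theorem el_mul {a b : ℕ} (ha : inH a = true) (hb : inH b = true) : c.el (mul a b) = c.el a * c.el b := by
  have h := c.map_mul (c.el a) (c.el b) (c.el_comm a) (c.el_comm b)
  rw [(c.el_spec ha).2, (c.el_spec hb).2] at h
  rw [← h, c.el_f ((c.el_comm a).mul_left (c.el_comm b))]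

theorem el_one : c.el one = 1 := by rw [← c.map_one, c.el_f (Commute.one_left z)]

theorem el_zc : c.el zc = z := by rw [← c.map_z, c.el_f (Commute.refl z)]

theorem el_inj {a b : ℕ} (ha : inH a = true) (hb : inH b = true) (h : c.el a = c.el b) : a = b := by
  rw [← (c.el_spec ha).2, ← (c.el_spec hb).2, h]

theorem el_commute {a b : ℕ} (ha : inH a = true) (hb : inH b = true) :
    Commute (c.el a) (c.el b) ↔ comm a b = true := by
  rw [← c.comm_iff (c.el_comm a) (c.el_comm b), (c.el_spec ha).2, (c.el_spec hb).2]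

theorem el_conj {g a b : ℕ} (hg : inH g = true) (ha : inH a = true) (hb : inH b = true)
    (h : mul g a = mul b g) : c.el g * c.el a * (c.el g)⁻¹ = c.el b := by
  rw [← c.el_mul hg ha, h, c.el_mul hb hg, mul_inv_cancel_right]

/-- The order of the centraliser. -/
theorem card_centralizer : Nat.card (Subgroup.centralizer ({z} : Set G)) = 23040 := by
  classical
  rw [← check_length, ← List.toFinset_card_of_nodup nodup_elts, ← Nat.card_eq_finsetCard]
  refine Nat.card_congr
    { toFun := fun a => ⟨c.f a, List.mem_toFinset.2 (c.mem_elts' (Subgroup.mem_centralizer_singleton_iff.1 a.2))⟩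
      invFun := fun d => ⟨c.el d, Subgroup.mem_centralizer_singleton_iff.2 (c.el_comm d)⟩
      left_inv := fun a => Subtype.ext (c.el_f (Subgroup.mem_centralizer_singleton_iff.1 a.2))
      right_inv := fun d => Subtype.ext (c.el_spec (inH_of_mem (List.mem_toFinset.1 d.2))).2 }

theorem inH_sylList {d : ℕ} (hd : d ∈ sylList) : inH d = true := by
  have key : ∀ (l : List (ℕ × ℕ × ℕ)) (acc : List ℕ), treeOK acc l = true → (∀ x ∈ acc, inH x = true) →
      ∀ x ∈ acc ++ l.map (fun p => p.1), inH x = true := by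
    intro l
    induction l with
    | nil => intro acc _ h x hx; exact h x (by simpa using hx)
    | cons e l ih =>
      obtain ⟨x, p, k⟩ := e
      intro acc h hacc
      simp only [treeOK, Bool.and_eq_true, decide_eq_true_eq, beq_iff_eq] at h
      obtain ⟨⟨⟨hp, hk⟩, rfl⟩, hrest⟩ := h
      have hx : inH (mul (acc.getD p 0) (sylGens.getD k 0)) = true := by
        have h1 := hacc (acc.getD p 0) (by rw [List.getD_eq_getElem _ _ hp]; exact List.getElem_mem _)
        have h2 : inH (sylGens.getD k 0) = true := List.all_eq_true.1 check_sylGens _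
          (by rw [List.getD_eq_getElem _ _ hk]; exact List.getElem_mem _)
        have := c.mem _ ((c.el_comm (acc.getD p 0)).mul_left (c.el_comm (sylGens.getD k 0)))
        rwa [c.map_mul _ _ (c.el_comm _) (c.el_comm _), (c.el_spec h1).2, (c.el_spec h2).2] at this
      intro y hy
      refine ih _ hrest (fun w hw => ?_) y (by simpa [List.append_assoc] using hy)
      rcases List.mem_append.1 hw with hw | hw
      · exact hacc w hw
      · rw [List.mem_singleton.1 hw]; exact hx
  exact key sylTree [one] check_tree (fun x hx => by rw [List.mem_singleton.1 hx]; decide +kernel) d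
    (by simpa [sylList] using hd)

/-- The Sylow 2-subgroup of the centraliser. -/
noncomputable def sylT : Subgroup G := Subgroup.closure (c.el '' {d | d ∈ sylGens})

theorem el_mem_sylT {d : ℕ} (hd : d ∈ sylList) : c.el d ∈ c.sylT := by
  have key : ∀ (l : List (ℕ × ℕ × ℕ)) (acc : List ℕ), treeOK acc l = true →
      (∀ x ∈ acc, inH x = true ∧ c.el x ∈ c.sylT) →
      ∀ x ∈ acc ++ l.map (fun p => p.1), inH x = true ∧ c.el x ∈ c.sylT := by
    intro l
    induction l with
    | nil => intro acc _ h x hx; exact h x (by simpa using hx)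
    | cons e l ih =>
      obtain ⟨x, p, k⟩ := e
      intro acc h hacc
      simp only [treeOK, Bool.and_eq_true, decide_eq_true_eq, beq_iff_eq] at h
      obtain ⟨⟨⟨hp, hk⟩, rfl⟩, hrest⟩ := h
      intro y hy
      refine ih _ hrest (fun w hw => ?_) y (by simpa [List.append_assoc] using hy)
      rcases List.mem_append.1 hw with hw | hw
      · exact hacc w hw
      · rw [List.mem_singleton.1 hw]
        have hk' : sylGens.getD k 0 ∈ sylGens := by rw [List.getD_eq_getElem _ _ hk]; exact List.getElem_mem _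
        obtain ⟨h1, h1'⟩ := hacc (acc.getD p 0) (by rw [List.getD_eq_getElem _ _ hp]; exact List.getElem_mem _)
        have h2 := List.all_eq_true.1 check_sylGens _ hk'
        refine ⟨?_, ?_⟩
        · have := c.mem _ ((c.el_comm (acc.getD p 0)).mul_left (c.el_comm (sylGens.getD k 0)))
          rwa [c.map_mul _ _ (c.el_comm _) (c.el_comm _), (c.el_spec h1).2, (c.el_spec h2).2] at this
        · rw [c.el_mul h1 h2]
          exact mul_mem h1' (Subgroup.subset_closure ⟨_, hk', rfl⟩)
  exact (key sylTree [one] check_tree (fun x hx => by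
    rw [List.mem_singleton.1 hx, c.el_one]; exact ⟨by decide +kernel, one_mem _⟩) d
    (by simpa [sylList] using hd)).2

theorem code_of_mem_sylT [Finite G] {a : G} (ha : a ∈ c.sylT) : Commute a z ∧ c.f a ∈ sylList := by
  refine Subgroup.closure_induction_right (p := fun a _ => Commute a z ∧ c.f a ∈ sylList)
    ⟨Commute.one_left z, by rw [c.map_one]; exact List.mem_cons_self⟩ ?_ ?_ ha
  · rintro x hx _ ⟨g, hg, rfl⟩ ⟨h1, h2⟩
    refine ⟨h1.mul_left (c.el_comm g), ?_⟩
    rw [c.map_mul _ _ h1 (c.el_comm g), (c.el_spec (List.all_eq_true.1 check_sylGens g hg)).2]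
    exact List.contains_iff_mem.1 (List.all_eq_true.1 (List.all_eq_true.1 check_closed _ h2) g hg)
  · rintro x hx _ ⟨g, hg, rfl⟩ ⟨h1, h2⟩
    -- the inverse is a positive power
    have hpow : ∀ n : ℕ, Commute (x * c.el g ^ n) z ∧ c.f (x * c.el g ^ n) ∈ sylList := by
      intro n
      induction n with
      | zero => rw [pow_zero, mul_one]; exact ⟨h1, h2⟩
      | succ n ih =>
        rw [pow_succ, ← mul_assoc]
        refine ⟨ih.1.mul_left (c.el_comm g), ?_⟩
        rw [c.map_mul _ _ ih.1 (c.el_comm g), (c.el_spec (List.all_eq_true.1 check_sylGens g hg)).2]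
        exact List.contains_iff_mem.1 (List.all_eq_true.1 (List.all_eq_true.1 check_closed _ ih.2) g hg)
    have e : (c.el g)⁻¹ = c.el g ^ (orderOf (c.el g) - 1) := by
      refine inv_eq_of_mul_eq_one_right ?_
      rw [← pow_succ', Nat.sub_add_cancel (orderOf_pos _), pow_orderOf_eq_one]
    rw [e]; exact hpow _

theorem card_sylT [Finite G] : Nat.card c.sylT = 512 := by
  classical
  rw [← check_length_syl, ← List.toFinset_card_of_nodup check_nodup, ← Nat.card_eq_finsetCard]
  refine Nat.card_congr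
    { toFun := fun a => ⟨c.f a, List.mem_toFinset.2 (c.code_of_mem_sylT a.2).2⟩
      invFun := fun d => ⟨c.el d, c.el_mem_sylT (List.mem_toFinset.1 d.2)⟩
      left_inv := fun a => Subtype.ext (c.el_f (c.code_of_mem_sylT a.2).1)
      right_inv := fun d => Subtype.ext (c.el_spec (c.inH_sylList (List.mem_toFinset.1 d.2))).2 }

theorem isPGroup_sylT [Finite G] : IsPGroup 2 c.sylT :=
  IsPGroup.of_card (n := 9) (by rw [c.card_sylT]; norm_num)

theorem sylT_index [Finite G] (hodd : ¬ 2 ∣ (Subgroup.centralizer ({z} : Set G)).index) :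
    ¬ 2 ∣ c.sylT.index := by
  have hle : c.sylT ≤ Subgroup.centralizer ({z} : Set G) := fun a ha =>
    Subgroup.mem_centralizer_singleton_iff.2 (c.code_of_mem_sylT ha).1
  rw [← Subgroup.relIndex_mul_index hle]
  have h := Subgroup.card_mul_index (c.sylT.subgroupOf (Subgroup.centralizer ({z} : Set G)))
  rw [Nat.card_congr (Subgroup.subgroupOfEquivOfLe hle).toEquiv, c.card_sylT, c.card_centralizer] at h
  refine Nat.prime_two.not_dvd_mul ?_ hodd
  rw [Subgroup.relIndex, show (c.sylT.subgroupOf (Subgroup.centralizer ({z} : Set G))).index = 45 by omega]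
  decide

/-- The element of `W` with a given number. -/
noncomputable def w (i : ℕ) : G := c.el (wlist.getD i 0)

theorem w_mul {i j : ℕ} (hi : i < 64) (hj : j < 64) : c.w i * c.w j = c.w (i ^^^ j) := by
  have := List.all_eq_true.1 (List.all_eq_true.1 check_w_mul i (List.mem_range.2 hi)) j (List.mem_range.2 hj)
  rw [beq_iff_eq] at this
  rw [w, w, w, ← this, c.el_mul (wlist_facts (wlist_getD_mem hi)).1 (wlist_facts (wlist_getD_mem hj)).1]

theorem w_zero : c.w 0 = 1 := by rw [w, check_w_nodup.2.2.2, c.el_one]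

theorem w_z : c.w 21 = z := by rw [w, check_w_nodup.2.2.1, c.el_zc]

theorem w_comm (i : ℕ) : Commute (c.w i) z := c.el_comm _

theorem w_inj {i j : ℕ} (hi : i < 64) (hj : j < 64) (h : c.w i = c.w j) : i = j := by
  have := c.el_inj (wlist_facts (wlist_getD_mem hi)).1 (wlist_facts (wlist_getD_mem hj)).1 h
  have hlen := check_w_nodup.2.1
  have hi' : i < wlist.length := by omega
  have hj' : j < wlist.length := by omega
  rw [List.getD_eq_getElem _ _ hi', List.getD_eq_getElem _ _ hj'] at this
  exact (check_w_nodup.1.getElem_inj_iff).1 this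

/-- The distinguished subgroup of order 64. -/
noncomputable def wgp : Subgroup G where
  carrier := {a | ∃ i < 64, c.w i = a}
  one_mem' := ⟨0, by norm_num, c.w_zero⟩
  mul_mem' := by
    rintro _ _ ⟨i, hi, rfl⟩ ⟨j, hj, rfl⟩
    exact ⟨i ^^^ j, Nat.xor_lt_two_pow (n := 6) hi hj, (c.w_mul hi hj).symm⟩
  inv_mem' := by
    rintro _ ⟨i, hi, rfl⟩
    exact ⟨i, hi, (inv_eq_of_mul_eq_one_right (by rw [c.w_mul hi hi, Nat.xor_self, c.w_zero])).symm⟩

theorem mem_wgp {a : G} : a ∈ c.wgp ↔ ∃ i < 64, c.w i = a := Iff.rfl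

theorem card_wgp : Nat.card c.wgp = 64 := by
  rw [← Nat.card_fin 64]
  refine (Nat.card_congr (Equiv.ofBijective (fun i : Fin 64 => (⟨c.w i, i, i.2, rfl⟩ : c.wgp)) ⟨?_, ?_⟩)).symm
  · exact fun i j h => Fin.ext (c.w_inj i.2 j.2 (congrArg Subtype.val h))
  · rintro ⟨_, i, hi, rfl⟩
    exact ⟨⟨i, hi⟩, rfl⟩

theorem wgp_sq {a : G} (ha : a ∈ c.wgp) : a * a = 1 := by
  obtain ⟨i, hi, rfl⟩ := ha
  rw [c.w_mul hi hi, Nat.xor_self, c.w_zero]

theorem wgp_comm {a b : G} (ha : a ∈ c.wgp) (hb : b ∈ c.wgp) : Commute a b := by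
  obtain ⟨i, hi, rfl⟩ := ha
  obtain ⟨j, hj, rfl⟩ := hb
  exact (c.w_mul hi hj).trans (by rw [Nat.xor_comm, c.w_mul hj hi])

theorem wgp_le_sylT : c.wgp ≤ c.sylT := by
  rintro _ ⟨i, hi, rfl⟩
  exact c.el_mem_sylT (wlist_facts (wlist_getD_mem hi)).2.2.1

/-- An elementary abelian subgroup of order 64 of the Sylow subgroup is `W`. -/
theorem eq_wgp_of_le [Finite G] {A : Subgroup G} (hA : A ≤ c.sylT) (hcard : Nat.card A = 64)
    (hsq : ∀ a ∈ A, a * a = 1) : A = c.wgp := by
  classical
  refine Subgroup.eq_of_le_of_card_ge ?_ (by rw [c.card_wgp, hcard])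
  intro x hx
  by_contra hxW
  obtain ⟨hxz, hxl⟩ := c.code_of_mem_sylT (hA hx)
  have hcA : ∀ a ∈ A, ∀ b ∈ A, Commute a b := fun a ha b hb => by
    have h := hsq _ (A.mul_mem ha hb)
    calc a * b = (b * b) * (a * b) * (a * a) := by rw [hsq b hb, hsq a ha, one_mul, mul_one]
      _ = b * (b * (a * b) * a) * a := by group
      _ = b * a := by
        rw [show b * (a * b) * a = b * a * (b * a) by group, hsq _ (A.mul_mem hb ha), mul_one]
  have hx1 : x ≠ 1 := fun h => hxW (h ▸ c.wgp.one_mem)
  have inv_of : ∀ a ∈ A, a ≠ 1 → c.f a ∈ sylInv := fun a ha h1 => by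
    obtain ⟨haz, hal⟩ := c.code_of_mem_sylT (hA ha)
    refine List.mem_filter.2 ⟨hal, ?_⟩
    rw [c.isInv_iff haz, orderOf_eq_prime_iff, pow_two]
    exact ⟨hsq a ha, h1⟩
  have hok := List.all_eq_true.1 check_only_w _ (inv_of x hx hx1)
  simp only [onlyOK, Bool.or_eq_true, List.contains_iff_mem, decide_eq_true_eq, Bool.and_eq_true, beq_iff_eq,
    List.any_eq_true, Bool.not_eq_true'] at hok
  rcases hok with hw | hok
  · refine hxW ?_
    obtain ⟨i, hi, e⟩ := List.getElem_of_mem hw
    have hi' : i < 64 := check_w_nodup.2.1 ▸ hi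
    refine ⟨i, hi', ?_⟩
    rw [w, List.getD_eq_getElem _ _ hi, e, c.el_f hxz]
  haveI := Fintype.ofFinite A
  let S : Finset ℕ := ((Finset.univ : Finset A).erase 1).image fun a => c.f a.1
  have hScard : S.card = 63 := by
    rw [Finset.card_image_of_injOn, Finset.card_erase_of_mem (Finset.mem_univ _), Finset.card_univ,
      ← Nat.card_eq_fintype_card, hcard]
    exact fun a _ b _ h => Subtype.ext (c.inj _ _ (c.code_of_mem_sylT (hA a.2)).1
      (c.code_of_mem_sylT (hA b.2)).1 h)
  have hsub : S ⊆ (commList (c.f x)).toFinset := by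
    intro d hd
    obtain ⟨a, ha, rfl⟩ := Finset.mem_image.1 hd
    have h1 : (a : G) ≠ 1 := fun h => (Finset.mem_erase.1 ha).1 (Subtype.ext h)
    refine List.mem_toFinset.2 (List.mem_filter.2 ⟨inv_of a a.2 h1, ?_⟩)
    exact (c.comm_iff hxz (c.code_of_mem_sylT (hA a.2)).1).2 (hcA x hx a a.2)
  have hle := (Finset.card_le_card hsub).trans (List.toFinset_card_le _)
  rcases hok with h | ⟨h63, a, ha, b, hb, hab⟩
  · omega
  · have heq : S = (commList (c.f x)).toFinset :=
      Finset.eq_of_subset_of_card_le hsub ((List.toFinset_card_le _).trans (by omega))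
    have ha' : a ∈ S := heq ▸ List.mem_toFinset.2 ha
    have hb' : b ∈ S := heq ▸ List.mem_toFinset.2 hb
    obtain ⟨a', -, rfl⟩ := Finset.mem_image.1 ha'
    obtain ⟨b', -, rfl⟩ := Finset.mem_image.1 hb'
    rw [(c.comm_iff (c.code_of_mem_sylT (hA a'.2)).1 (c.code_of_mem_sylT (hA b'.2)).1).2
      (hcA _ a'.2 _ b'.2)] at hab
    exact Bool.noConfusion hab

/-- Two elementary abelian subgroups of order 64 in a 2-subgroup coincide. -/
theorem eq_of_le_two [Finite G] (hodd : ¬ 2 ∣ (Subgroup.centralizer ({z} : Set G)).index) {A B R : Subgroup G}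
    (hR : IsPGroup 2 R) (hA : A ≤ R) (hB : B ≤ R) (hcA : Nat.card A = 64) (hcB : Nat.card B = 64)
    (hsA : ∀ a ∈ A, a * a = 1) (hsB : ∀ a ∈ B, a * a = 1) : A = B := by
  haveI : Fact (Nat.Prime 2) := ⟨Nat.prime_two⟩
  obtain ⟨P, hP⟩ := hR.exists_le_sylow
  obtain ⟨g, hg⟩ := MulAction.exists_smul_eq G P (c.isPGroup_sylT.toSylow (c.sylT_index hodd))
  have key : ∀ X : Subgroup G, X ≤ R → Nat.card X = 64 → (∀ a ∈ X, a * a = 1) →
      X.map (MulAut.conj g).toMonoidHom = c.wgp := by
    intro X hX hcard hsq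
    refine c.eq_wgp_of_le ?_ ?_ ?_
    · rintro _ ⟨a, ha, rfl⟩
      have : g * a * g⁻¹ ∈ ((g • P : Sylow 2 G) : Subgroup G) := ⟨a, hP (hX ha), rfl⟩
      rw [hg] at this
      exact this
    · rw [Nat.card_congr (X.equivMapOfInjective _ (MulEquiv.injective _)).toEquiv.symm, hcard]
    · rintro _ ⟨a, ha, rfl⟩
      rw [← _root_.map_mul, hsq a ha, _root_.map_one]
  exact Subgroup.map_injective (MulEquiv.injective _) ((key A hA hcA hsA).trans (key B hB hcB hsB).symm)

/-- The normaliser of `W` controls the fusion in `W`. -/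
theorem exists_normalizer_conj [Finite G] (hodd : ¬ 2 ∣ (Subgroup.centralizer ({z} : Set G)).index) {g u : G}
    (hu : u ∈ c.wgp) (hgu : g * u * g⁻¹ ∈ c.wgp) :
    ∃ n : G, c.wgp.map (MulAut.conj n).toMonoidHom = c.wgp ∧ n * u * n⁻¹ = g * u * g⁻¹ := by
  haveI : Fact (Nat.Prime 2) := ⟨Nat.prime_two⟩
  set v := g * u * g⁻¹ with hv
  set C := Subgroup.centralizer ({v} : Set G)
  set A := c.wgp.map (MulAut.conj g).toMonoidHom with hAdef
  have hA64 : Nat.card A = 64 := by
    rw [hAdef, Nat.card_congr (c.wgp.equivMapOfInjective _ (MulEquiv.injective _)).toEquiv.symm, c.card_wgp]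
  have hAsq : ∀ a ∈ A, a * a = 1 := by
    rintro _ ⟨a, ha, rfl⟩
    rw [← _root_.map_mul, c.wgp_sq ha, _root_.map_one]
  have hAC : A ≤ C := by
    rintro _ ⟨a, ha, rfl⟩
    rw [Subgroup.mem_centralizer_singleton_iff]
    exact ((Commute.conj_iff g).2 (c.wgp_comm ha hu)).eq
  have hWC : c.wgp ≤ C := fun a ha => Subgroup.mem_centralizer_singleton_iff.2 (c.wgp_comm ha hgu)
  have hp : ∀ {X : Subgroup G}, Nat.card X = 64 → IsPGroup 2 X := fun h => IsPGroup.of_card (n := 6) (by
    rw [h]; norm_num)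
  obtain ⟨R1, hR1⟩ := ((hp hA64).comap_of_injective C.subtype C.subtype_injective).exists_le_sylow
  obtain ⟨R2, hR2⟩ := ((hp c.card_wgp).comap_of_injective C.subtype C.subtype_injective).exists_le_sylow
  obtain ⟨d, hd⟩ := MulAction.exists_smul_eq C R1 R2
  refine ⟨d * g, ?_, ?_⟩
  · rw [show (MulAut.conj ((d : G) * g)).toMonoidHom =
      (MulAut.conj (d : G)).toMonoidHom.comp (MulAut.conj g).toMonoidHom by
        ext; simp [mul_assoc], ← Subgroup.map_map, ← hAdef]
    refine c.eq_of_le_two hodd (R := (R2 : Subgroup C).map C.subtype) (R2.2.map _) ?_ ?_ ?_ c.card_wgp ?_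
      fun a ha => c.wgp_sq ha
    · rintro _ ⟨a, ha, rfl⟩
      have h1 : (⟨a, hAC ha⟩ : C) ∈ (R1 : Subgroup C) := hR1 (show a ∈ A from ha)
      have h2 : d * ⟨a, hAC ha⟩ * d⁻¹ ∈ ((d • R1 : Sylow 2 C) : Subgroup C) := ⟨_, h1, rfl⟩
      rw [hd] at h2
      exact ⟨_, h2, rfl⟩
    · exact fun a ha => ⟨⟨a, hWC ha⟩, hR2 (show a ∈ c.wgp from ha), rfl⟩
    · rw [Nat.card_congr (A.equivMapOfInjective _ (MulEquiv.injective _)).toEquiv.symm, hA64]
    · rintro _ ⟨a, ha, rfl⟩
      rw [← _root_.map_mul, hAsq a ha, _root_.map_one]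
  · have hd' : (d : G) * v = v * d := Subgroup.mem_centralizer_singleton_iff.1 d.2
    calc (d : G) * g * u * ((d : G) * g)⁻¹ = (d : G) * v * (d : G)⁻¹ := by rw [hv]; group
      _ = v := by rw [hd', mul_inv_cancel_right]

end Coding

end Cfsg.Agent.AltTwelveCent
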