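import Cfsg.Agent.Lib.AltTwelveCent.Code
import Cfsg.Agent.Lib.AltTwelveCent.ClassData

/-
Certificate checks for the fusion in `W`.

* `check_roots` : three classes consist of squares
* `check_wclass` : the classes of the members of `W`
* `check_patterns` : the possible patterns of fused classes
-/

set_option autoImplicit false
set_option maxRecDepth 20000

namespace Cfsg.Agent.AltTwelveCent

/-- Square roots of the representatives of the classes 0, 1 and 6. -/
def rootData : List (ℕ × ℕ) := [(0, 0xba9876451023), (1, 0xba9854671023), (6, 0xba9810327654)]

theorem check_roots : (rootData.all fun p => inH p.2 && mul p.2 p.2 == wlist.getD (repIdx.getD p.1 0) 0) = true := by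
  decide +kernel

/-- Is the code listed in the given class? -/
def inClass (j d : ℕ) : Bool := (classData.getD j []).any fun p => p.1 == d

theorem check_wclass : ((List.range 64).all fun i => i == 0 ||
    inClass (wclass.getD i 0) (wlist.getD i 0)) = true := by decide +kernel

/-- The six classes that may be fused with that of `zc`. -/
def openClasses : List ℕ := [3, 4, 5, 7, 8, 9]

/-- Is the class fused in the pattern `f`? -/
def fused (f j : ℕ) : Bool := j == 2 || (openClasses.contains j && (f >>> openClasses.idxOf j) &&& 1 == 1)

/-- The members of `W` fused to `zc` in the pattern `f`, as a bit mask. -/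
def omask (f : ℕ) : ℕ := ((List.range 64).map fun i => if fused f (wclass.getD i 0) then 2 ^ i else 0).sum

/-- Membership in a mask. -/
def inMask (m i : ℕ) : Bool := (m >>> i) &&& 1 == 1

/-- The members of a mask. -/
def olist (m : ℕ) : List ℕ := (List.range 64).filter (inMask m)

/-- Pairs in a mask with a given sum. -/
def pairsAt (m x : ℕ) : ℕ := ((olist m).filter fun a => inMask m (a ^^^ x)).length

/-- Triples in a mask with a given sum. -/
def triplesAt (m x : ℕ) : ℕ := ((olist m).map fun a => pairsAt m (a ^^^ x)).sum

/-- The counts agree at all fused representatives. -/
def patternOK (f : ℕ) : Bool :=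
  (openClasses.all fun j => !fused f j || pairsAt (omask f) (repIdx.getD j 0) == pairsAt (omask f) 21) &&
    openClasses.all fun j => !fused f j || triplesAt (omask f) (repIdx.getD j 0) == triplesAt (omask f) 21

theorem check_patterns : ((List.range 64).all fun f => [0, 1, 4, 57, 60].contains f || !patternOK f) = true := by
  decide +kernel

end Cfsg.Agent.AltTwelveCent
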