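import Cfsg.Agent.Lib.AltTwelveCent.Code
import Cfsg.Agent.Lib.AltTwelveCent.ClassData

/-
Certificate checks over all codes of the centraliser.

* `check_scan` : `zc` is no square, and the listed classes contain all involutions
-/

set_option autoImplicit false
set_option maxRecDepth 20000

namespace Cfsg.Agent.AltTwelveCent

/-- Is the code listed in some class? -/
def inClasses (d : ℕ) : Bool := classData.any fun L => L.any fun p => p.1 == d

/-- A code is not a root of `zc`, and is listed if it is an involution. -/
def scanOK (d : ℕ) : Bool :=
  let q := mul d d
  q != zc && (q != one || d == one || inClasses d)

theorem check_scan : elts.all scanOK = true := by decide +kernel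

/-- The members of a class are conjugates of its representative. -/
def classOK (r : ℕ) (L : List (ℕ × ℕ)) : Bool :=
  L.all fun p => inH p.2 && mul p.2 r == mul p.1 p.2 && isInv p.1

theorem check_classData : (List.range 10).all (fun j =>
    classOK (wlist.getD (repIdx.getD j 0) 0) (classData.getD j [])) = true := by decide +kernel

end Cfsg.Agent.AltTwelveCent
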