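import Mathlib.Data.List.Basic
import Mathlib.Data.Nat.Bitwise
import Mathlib.Data.List.Nodup

/-
Codes of permutations of twelve points: sixteen-adic digits are the images.

* `ofFun`, `app`, `mul` : codes, images, composition
* `zc` : the code of `(0 1)(2 3)(4 5)(6 7)(8 9)(10 11)`
* `inH`, `elts` : the even permutations commuting with it
* `mem_elts` : a code passing `inH` is listed
-/

set_option autoImplicit false

namespace Cfsg.Agent.AltTwelveCent

/-- The image of a point. -/
def app (d i : ℕ) : ℕ := (d >>> (4 * i)) &&& 15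

/-- The code of a list of images. -/
def ofList : List ℕ → ℕ
  | [] => 0
  | a :: l => a + 16 * ofList l

/-- The code of a function. -/
def ofFun (f : ℕ → ℕ) : ℕ := ofList ((List.range 12).map f)

/-- Composition, the right factor first, unfolded for the kernel. -/
def mul (a b : ℕ) : ℕ :=
  Nat.add (app a (app b 0)) (Nat.mul 16 (Nat.add (app a (app b 1)) (Nat.mul 16 (Nat.add (app a (app b 2)) (Nat.mul
  16 (Nat.add (app a (app b 3)) (Nat.mul 16 (Nat.add (app a (app b 4)) (Nat.mul 16 (Nat.add (app a (app b 5))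
  (Nat.mul 16 (Nat.add (app a (app b 6)) (Nat.mul 16 (Nat.add (app a (app b 7)) (Nat.mul 16 (Nat.add (app a (app b
  8)) (Nat.mul 16 (Nat.add (app a (app b 9)) (Nat.mul 16 (Nat.add (app a (app b 10)) (Nat.mul 16 (app a (app b
  11)))))))))))))))))))))))

/-- The identity. -/
def one : ℕ := ofFun id

/-- The fixed-point-free involution. -/
def zc : ℕ := ofFun fun i => i ^^^ 1

/-- Commuting codes. -/
def comm (a b : ℕ) : Bool := mul a b == mul b a

/-- A non-trivial code with trivial square. -/
def isInv (a : ℕ) : Bool := a != one && mul a a == one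

theorem app_eq (d i : ℕ) : app d i = d / 16 ^ i % 16 := by
  rw [app, Nat.shiftRight_eq_div_pow, show (15 : ℕ) = 2 ^ 4 - 1 from rfl, Nat.and_two_pow_sub_one_eq_mod,
    pow_mul]
  rfl

theorem app_ofList : ∀ (l : List ℕ), (∀ a ∈ l, a < 16) → ∀ i, app (ofList l) i = l.getD i 0
  | [], _, i => by simp [app, ofList]
  | a :: l, h, 0 => by
    have := h a List.mem_cons_self
    rw [app_eq, ofList, pow_zero, Nat.div_one]
    simp only [List.getD_cons_zero]
    omega
  | a :: l, h, i + 1 => by
    have := h a List.mem_cons_self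
    rw [app_eq, ofList, pow_succ', ← Nat.div_div_eq_div_mul, show (a + 16 * ofList l) / 16 = ofList l by omega,
      ← app_eq, app_ofList l (fun b hb => h b (List.mem_cons_of_mem _ hb)) i, List.getD_cons_succ]

theorem app_ofFun (f : ℕ → ℕ) (hf : ∀ i < 12, f i < 16) {i : ℕ} (hi : i < 12) : app (ofFun f) i = f i := by
  rw [ofFun, app_ofList _ (fun a ha => by
    obtain ⟨k, hk, rfl⟩ := List.mem_map.1 ha
    exact hf k (List.mem_range.1 hk))]
  simp [List.getD, hi]

theorem mul_eq_ofFun (a b : ℕ) : mul a b = ofFun fun i => app a (app b i) := rfl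

theorem ofFun_congr {f g : ℕ → ℕ} (h : ∀ i < 12, f i = g i) : ofFun f = ofFun g :=
  congrArg ofList (List.map_congr_left fun i hi => h i (List.mem_range.1 hi))

/-- The even points of the pairs are sent to the six points, and the odd ones to their partners. -/
def mkH : List ℕ → ℕ
  | [a0, a1, a2, a3, a4, a5] =>
    Nat.add (a0) (Nat.mul 16 (Nat.add (Nat.xor a0 1) (Nat.mul 16 (Nat.add (a1) (Nat.mul 16 (Nat.add (Nat.xor a1 1)
    (Nat.mul 16 (Nat.add (a2) (Nat.mul 16 (Nat.add (Nat.xor a2 1) (Nat.mul 16 (Nat.add (a3) (Nat.mul 16 (Nat.add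
    (Nat.xor a3 1) (Nat.mul 16 (Nat.add (a4) (Nat.mul 16 (Nat.add (Nat.xor a4 1) (Nat.mul 16 (Nat.add (a5) (Nat.mul
    16 (Nat.xor a5 1))))))))))))))))))))))
  | _ => 0

/-- The lists of `k` points from distinct pairs among the given pairs, with the parity of the number of odd ones. -/
def arrs : ℕ → List ℕ → ℕ → List (List ℕ)
  | 0, _, e => if e == 0 then [[]] else []
  | k + 1, P, e => P.flatMap fun q =>
    ((arrs k (P.erase q) e).map fun r => (2 * q) :: r) ++ (arrs k (P.erase q) (1 - e)).map fun r => (2 * q + 1) :: r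

/-- An even permutation commuting with `zc`. -/
def inH (d : ℕ) : Bool :=
  d == mkH ((List.range 6).map fun i => app d (2 * i)) &&
  ((List.range 6).all fun i => app d (2 * i) < 12 &&
    (List.range i).all fun j => app d (2 * i) / 2 != app d (2 * j) / 2) &&
  ((List.range 6).map fun i => app d (2 * i) % 2).sum % 2 == 0

/-- All codes of the centraliser. -/
def elts : List ℕ := (arrs 6 (List.range 6) 0).map mkH

theorem mem_arrs : ∀ (l : List ℕ) (P : List ℕ) (e : ℕ), e < 2 → (l.map (· % 2)).sum % 2 = e →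
    (l.map (· / 2)).Nodup → (∀ a ∈ l, a / 2 ∈ P) → l ∈ arrs l.length P e
  | [], _, e, he, hs, _, _ => by
    simp only [List.map_nil, List.sum_nil, Nat.zero_mod] at hs
    subst hs
    exact List.mem_singleton.2 rfl
  | a :: l, P, e, he, hs, hn, hP => by
    rw [List.map_cons, List.nodup_cons] at hn
    simp only [List.map_cons, List.sum_cons] at hs
    have hl : ∀ b ∈ l, b / 2 ∈ P.erase (a / 2) := fun b hb =>
      (List.mem_erase_of_ne fun h => hn.1 (List.mem_map.2 ⟨b, hb, h⟩)).2 (hP b (List.mem_cons_of_mem _ hb))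
    refine List.mem_flatMap.2 ⟨a / 2, hP a List.mem_cons_self, List.mem_append.2 ?_⟩
    rcases Nat.mod_two_eq_zero_or_one a with h | h
    · refine Or.inl (List.mem_map.2 ⟨l, mem_arrs l _ e he (by omega) hn.2 hl, ?_⟩)
      congr 1; omega
    · refine Or.inr (List.mem_map.2 ⟨l, mem_arrs l _ (1 - e) (by omega) (by omega) hn.2 hl, ?_⟩)
      congr 1; omega

theorem mem_elts {d : ℕ} (h : inH d = true) : d ∈ elts := by
  simp only [inH, Bool.and_eq_true, beq_iff_eq, List.all_eq_true, bne_iff_ne, decide_eq_true_eq,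
    List.mem_range] at h
  obtain ⟨⟨hd, hl⟩, hp⟩ := h
  refine List.mem_map.2 ⟨(List.range 6).map fun i => app d (2 * i), ?_, hd.symm⟩
  have hm : ((List.range 6).map fun i => app d (2 * i)).length = 6 := by simp
  refine (congrArg (fun k => _ ∈ arrs k (List.range 6) 0) hm).mp (mem_arrs _ _ 0 (by omega) ?_ ?_ ?_)
  · rw [List.map_map]; exact hp
  · rw [List.map_map]
    refine List.nodup_range.map_on fun a ha b hb e => ?_
    rw [List.mem_range] at ha hb
    rcases Nat.lt_trichotomy a b with hab | hab | hab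
    · exact absurd e.symm ((hl b hb).2 a hab)
    · exact hab
    · exact absurd e ((hl a ha).2 b hab)
  · intro a ha
    obtain ⟨i, hi, rfl⟩ := List.mem_map.1 ha
    rw [List.mem_range] at hi ⊢
    have := (hl i hi).1
    omega

theorem arrs_spec : ∀ (k : ℕ) (P : List ℕ) (e : ℕ), (∀ q ∈ P, q < 6) → P.Nodup → e < 2 → ∀ l ∈ arrs k P e,
    l.length = k ∧ (∀ a ∈ l, a < 12 ∧ a / 2 ∈ P) ∧ (l.map (· / 2)).Nodup ∧ (l.map (· % 2)).sum % 2 = e
  | 0, P, e, _, _, he, l, hl => by
    rw [arrs] at hl
    split at hl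
    next h => rw [List.mem_singleton] at hl; subst hl; simp at h; simp [h]
    next => simp at hl
  | k + 1, P, e, hP, hn, he, l, hl => by
    obtain ⟨q, hq, hl⟩ := List.mem_flatMap.1 hl
    have h6 := hP q hq
    have hP' : ∀ b ∈ P.erase q, b < 6 := fun b hb => hP b (List.mem_of_mem_erase hb)
    have build : ∀ (a e' : ℕ), a < 12 → a / 2 = q → e' < 2 → (a % 2 + e') % 2 = e → ∀ r ∈ arrs k (P.erase q) e',
        (a :: r).length = k + 1 ∧ (∀ b ∈ a :: r, b < 12 ∧ b / 2 ∈ P) ∧ ((a :: r).map (· / 2)).Nodup ∧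
          ((a :: r).map (· % 2)).sum % 2 = e := fun a e' ha haq he' hs r hr => by
      obtain ⟨h1, h2, h3, h4⟩ := arrs_spec k _ e' hP' (hn.erase q) he' r hr
      refine ⟨by simp [h1], fun b hb => ?_, ?_, ?_⟩
      · rcases List.mem_cons.1 hb with rfl | hb
        · exact ⟨ha, haq ▸ hq⟩
        · exact ⟨(h2 b hb).1, List.mem_of_mem_erase (h2 b hb).2⟩
      · rw [List.map_cons, List.nodup_cons]
        refine ⟨fun hm => ?_, h3⟩
        obtain ⟨b, hb, hbq⟩ := List.mem_map.1 hm
        have := (h2 b hb).2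
        rw [hn.mem_erase_iff] at this
        exact this.1 (hbq.trans haq)
      · rw [List.map_cons, List.sum_cons]; omega
    rcases List.mem_append.1 hl with hl | hl
    · obtain ⟨r, hr, rfl⟩ := List.mem_map.1 hl
      exact build _ e (by omega) (by omega) he (by omega) r hr
    · obtain ⟨r, hr, rfl⟩ := List.mem_map.1 hl
      exact build _ (1 - e) (by omega) (by omega) (by omega) (by omega) r hr

theorem app_mkH {a0 a1 a2 a3 a4 a5 : ℕ} (ha : ∀ a ∈ [a0, a1, a2, a3, a4, a5], a < 12) :
    (List.range 6).map (fun i => app (mkH [a0, a1, a2, a3, a4, a5]) (2 * i)) = [a0, a1, a2, a3, a4, a5] := by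
  simp only [List.mem_cons, List.not_mem_nil, or_false, forall_eq_or_imp, forall_eq] at ha
  have key : ∀ x, x < 12 → Nat.xor x 1 < 16 := by decide +kernel
  obtain ⟨x0, x1, x2, x3, x4, x5⟩ := ha
  have := key a0 x0; have := key a1 x1; have := key a2 x2; have := key a3 x3; have := key a4 x4; have := key a5 x5
  have e : mkH [a0, a1, a2, a3, a4, a5] = ofList [a0, Nat.xor a0 1, a1, Nat.xor a1 1, a2, Nat.xor a2 1, a3,
      Nat.xor a3 1, a4, Nat.xor a4 1, a5, Nat.xor a5 1] := rfl
  rw [e, show List.range 6 = [0, 1, 2, 3, 4, 5] from rfl]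
  simp only [List.map_cons, List.map_nil]
  rw [app_ofList _ (by simp only [List.mem_cons, List.not_mem_nil, or_false, forall_eq_or_imp, forall_eq]; omega),
    app_ofList _ (by simp only [List.mem_cons, List.not_mem_nil, or_false, forall_eq_or_imp, forall_eq]; omega),
    app_ofList _ (by simp only [List.mem_cons, List.not_mem_nil, or_false, forall_eq_or_imp, forall_eq]; omega),
    app_ofList _ (by simp only [List.mem_cons, List.not_mem_nil, or_false, forall_eq_or_imp, forall_eq]; omega),
    app_ofList _ (by simp only [List.mem_cons, List.not_mem_nil, or_false, forall_eq_or_imp, forall_eq]; omega),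
    app_ofList _ (by simp only [List.mem_cons, List.not_mem_nil, or_false, forall_eq_or_imp, forall_eq]; omega)]
  rfl

theorem inH_of_mem {d : ℕ} (h : d ∈ elts) : inH d = true := by
  obtain ⟨l, hl, rfl⟩ := List.mem_map.1 h
  obtain ⟨h1, h2, h3, h4⟩ := arrs_spec 6 _ 0 (fun q hq => List.mem_range.1 hq) List.nodup_range (by omega) l hl
  match l, h1 with
  | [a0, a1, a2, a3, a4, a5], _ =>
    have e := app_mkH fun a ha => (h2 a ha).1
    simp only [inH, e, Bool.and_eq_true, beq_self_eq_true, true_and, List.all_eq_true, bne_iff_ne,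
      decide_eq_true_eq, List.mem_range, beq_iff_eq]
    have hi : ∀ i < 6, app (mkH [a0, a1, a2, a3, a4, a5]) (2 * i) = [a0, a1, a2, a3, a4, a5].getD i 0 := fun i hi => by
      simpa [List.getD, hi] using congrArg (fun L => L.getD i 0) e
    refine ⟨fun i hi6 => ⟨?_, fun j hj hne => ?_⟩, ?_⟩
    · rw [hi i hi6]
      refine (h2 _ ?_).1
      rw [List.getD_eq_getElem _ _ (by simp; omega)]
      exact List.getElem_mem _
    · rw [hi i hi6, hi j (by omega)] at hne
      have hinj := List.nodup_iff_injective_get.1 h3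
      have := @hinj ⟨i, by simp; omega⟩ ⟨j, by simp; omega⟩ (by
        simp only [List.get_eq_getElem, List.getElem_map]
        rwa [List.getD_eq_getElem _ _ (by simp; omega), List.getD_eq_getElem _ _ (by simp; omega)] at hne)
      have := congrArg Fin.val this
      simp only at this
      omega
    · rw [show (List.range 6).map (fun i => app (mkH [a0, a1, a2, a3, a4, a5]) (2 * i) % 2) =
          ((List.range 6).map fun i => app (mkH [a0, a1, a2, a3, a4, a5]) (2 * i)).map (· % 2) by
        rw [List.map_map]; rfl, e]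
      exact h4

theorem nodup_arrs : ∀ (k : ℕ) (P : List ℕ) (e : ℕ), P.Nodup → (arrs k P e).Nodup
  | 0, P, e, _ => by
    rw [arrs]; split <;> simp
  | k + 1, P, e, hP => by
    rw [arrs, List.nodup_flatMap]
    refine ⟨fun q hq => ?_, ?_⟩
    · rw [List.nodup_append]
      refine ⟨(nodup_arrs k _ e (hP.erase q)).map fun a b h => by simpa using h,
        (nodup_arrs k _ _ (hP.erase q)).map fun a b h => by simpa using h, ?_⟩
      intro a ha b hb h
      obtain ⟨r, -, rfl⟩ := List.mem_map.1 ha
      obtain ⟨s, -, rfl⟩ := List.mem_map.1 hb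
      simp at h
    · refine hP.imp fun {q q'} hne => ?_
      intro l h1 h2
      simp only [List.mem_append, List.mem_map] at h1 h2
      rcases h1 with ⟨r, -, rfl⟩ | ⟨r, -, rfl⟩ <;> rcases h2 with ⟨s, -, h⟩ | ⟨s, -, h⟩ <;>
        simp at h <;> omega

theorem mkH_inj : ∀ {l l' : List ℕ}, l.length = 6 → l'.length = 6 → (∀ a ∈ l, a < 12) → (∀ a ∈ l', a < 12) →
    mkH l = mkH l' → l = l'
  | [a0, a1, a2, a3, a4, a5], [b0, b1, b2, b3, b4, b5], _, _, ha, hb, h => by
    rw [← app_mkH ha, ← app_mkH hb, h]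

theorem nodup_elts : elts.Nodup := by
  refine (nodup_arrs 6 _ 0 List.nodup_range).map_on fun a ha b hb h => ?_
  obtain ⟨h1, h2, -⟩ := arrs_spec 6 _ 0 (fun q hq => List.mem_range.1 hq) List.nodup_range (by omega) a ha
  obtain ⟨k1, k2, -⟩ := arrs_spec 6 _ 0 (fun q hq => List.mem_range.1 hq) List.nodup_range (by omega) b hb
  exact mkH_inj h1 k1 (fun x hx => (h2 x hx).1) (fun x hx => (k2 x hx).1) h

end Cfsg.Agent.AltTwelveCent
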