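import Cfsg.Agent.Lib.AltTwelveCent.Code
import Mathlib.GroupTheory.SpecificGroups.Alternating
import Mathlib.GroupTheory.Subgroup.Centralizer
import Mathlib.GroupTheory.OrderOfElement
import Mathlib.Data.Set.Card

/-
A group element whose centraliser is coded like that of a fixed-point-free involution of `A₁₂`.

* `z0`, `coding_z0` : the involution of `A₁₂` and its coding
* `Coding z` : such a coding
-/

set_option autoImplicit false

namespace Cfsg.Agent.AltTwelveCent

open Equiv

/-- The fixed-point-free involution. -/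
def z0 : Perm (Fin 12) :=
  swap (0 : Fin 12) 1 * swap (2 : Fin 12) 3 * swap (4 : Fin 12) 5 * swap (6 : Fin 12) 7 * swap (8 : Fin 12) 9 *
    swap (10 : Fin 12) 11

/-- The code of a permutation. -/
def pcode (p : Perm (Fin 12)) : ℕ := ofFun fun i => if h : i < 12 then (p ⟨i, h⟩).val else 0

theorem app_pcode (p : Perm (Fin 12)) (x : Fin 12) : app (pcode p) x = p x := by
  rw [pcode, app_ofFun _ (fun i hi => by rw [dif_pos hi]; omega) x.2, dif_pos x.2]

theorem pcode_mul (p q : Perm (Fin 12)) : pcode (p * q) = mul (pcode p) (pcode q) := by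
  rw [mul_eq_ofFun]
  refine ofFun_congr fun i hi => ?_
  rw [dif_pos hi]
  have h1 := app_pcode q ⟨i, hi⟩
  simp only at h1
  rw [h1, app_pcode p, Perm.mul_apply]

theorem pcode_inj {p q : Perm (Fin 12)} (h : pcode p = pcode q) : p = q := by
  ext x
  rw [← app_pcode p, ← app_pcode q, h]

theorem pcode_z0 : pcode z0 = zc := by decide +kernel

theorem mkH_eq (a0 a1 a2 a3 a4 a5 : ℕ) : mkH [a0, a1, a2, a3, a4, a5] =
    ofList [a0, Nat.xor a0 1, a1, Nat.xor a1 1, a2, Nat.xor a2 1, a3, Nat.xor a3 1, a4, Nat.xor a4 1, a5,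
      Nat.xor a5 1] := rfl

theorem range_six : List.range 6 = [0, 1, 2, 3, 4, 5] := rfl

theorem z0_apply : ∀ x : Fin 12, (z0 x).val = x.val ^^^ 1 := by decide +kernel

theorem xor_one (a : ℕ) : a ^^^ 1 = 2 * (a / 2) + (1 - a % 2) := by
  have h1 : (a ^^^ 1) / 2 = a / 2 := by rw [Nat.xor_div_two]; simp
  have h2 := Nat.xor_mod_two_pow (a := a) (b := 1) (n := 1)
  rcases Nat.mod_two_eq_zero_or_one a with h | h
  · rw [pow_one, h, show (0 : ℕ) ^^^ (1 % 2) = 1 from rfl] at h2; omega
  · rw [pow_one, h, show (1 : ℕ) ^^^ (1 % 2) = 0 from rfl] at h2; omega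

/-- A permutation commuting with `z0` respects the pairs. -/
theorem apply_xor {p : Perm (Fin 12)} (hp : p * z0 = z0 * p) (x : Fin 12) :
    (p (z0 x)).val = (p x).val ^^^ 1 := by
  rw [← z0_apply (p x), ← Perm.mul_apply p z0, hp, Perm.mul_apply]

/-- The parity of a permutation commuting with `z0`. -/
theorem sign_eq {p : Perm (Fin 12)} (hp : p * z0 = z0 * p) :
    Perm.sign p = ∏ i : Fin 6, (-1 : ℤˣ) ^ ((p ⟨2 * i.val, by omega⟩).val % 2) := by
  let e : Fin 6 × Fin 2 ≃ Fin 12 := finProdFinEquiv
  have he : ∀ i b, (e (i, b)).val = b.val + 2 * i.val := fun i b => rfl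
  set q := e.symm.permCongr p with hq
  have hodd : ∀ i : Fin 6, (p ⟨2 * i.val + 1, by omega⟩).val = (p ⟨2 * i.val, by omega⟩).val ^^^ 1 := fun i => by
    have h0 : z0 ⟨2 * i.val, by omega⟩ = ⟨2 * i.val + 1, by omega⟩ := by
      ext; rw [z0_apply]; fin_cases i <;> rfl
    rw [← h0, apply_xor hp]
  have hxor := xor_one
  let σf : Fin 6 → Fin 6 := fun i => ⟨(p ⟨2 * i.val, by omega⟩).val / 2, by omega⟩
  let c : Fin 6 → Fin 2 := fun i => ⟨(p ⟨2 * i.val, by omega⟩).val % 2, by omega⟩
  have hσ : Function.Injective σf := by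
    intro i j h
    have h' : (p ⟨2 * i.val, by omega⟩).val / 2 = (p ⟨2 * j.val, by omega⟩).val / 2 := congrArg Fin.val h
    rcases eq_or_ne ((p ⟨2 * i.val, by omega⟩).val % 2) ((p ⟨2 * j.val, by omega⟩).val % 2) with h2 | h2
    · have := congrArg Fin.val (p.injective (Fin.ext (a := p ⟨2 * i.val, by omega⟩) (b := p ⟨2 * j.val, by omega⟩)
        (by omega)))
      exact Fin.ext (by simp at this; omega)
    · have := congrArg Fin.val (p.injective (Fin.ext (a := p ⟨2 * i.val + 1, by omega⟩)
        (b := p ⟨2 * j.val, by omega⟩) (by rw [hodd, hxor]; omega)))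
      exact Fin.ext (by simp at this; omega)
  let σ : Perm (Fin 6) := Equiv.ofBijective σf (Finite.injective_iff_bijective.1 hσ)
  have hqe : q = Equiv.prodCongrLeft (fun _ : Fin 2 => σ) * Equiv.prodCongrRight fun i => Equiv.addRight (c i) := by
    refine Equiv.ext fun ⟨i, b⟩ => e.injective (Fin.ext ?_)
    revert b
    rw [Fin.forall_fin_two]
    constructor <;>
      rw [hq, Equiv.permCongr_apply, Equiv.symm_symm, Equiv.apply_symm_apply, Perm.mul_apply]
    · show (p (e (i, 0))).val = (e (σf i, 0 + c i)).val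
      rw [he, show e (i, 0) = (⟨2 * i.val, by omega⟩ : Fin 12) from Fin.ext (by rw [he]; simp)]
      simp [σf, c]
      omega
    · show (p (e (i, 1))).val = (e (σf i, 1 + c i)).val
      rw [he, show e (i, 1) = (⟨2 * i.val + 1, by omega⟩ : Fin 12) from Fin.ext (by rw [he]; simp; omega),
        hodd, hxor]
      simp [σf, c, Fin.val_add]
      omega
  have hsq : q.sign = ∏ i : Fin 6, (-1 : ℤˣ) ^ (c i).val := by
    rw [hqe, map_mul, Perm.sign_prodCongrLeft, Perm.sign_prodCongrRight, Fin.prod_univ_two, Int.units_mul_self,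
      one_mul]
    refine Finset.prod_congr rfl fun i _ => ?_
    generalize c i = d
    revert d
    decide
  rw [← Perm.sign_permCongr e.symm p, ← hq, hsq]

theorem even_sum_iff (f : Fin 6 → ℕ) :
    (∏ i : Fin 6, (-1 : ℤˣ) ^ (f i % 2)) = 1 ↔
      (f 0 % 2 + f 1 % 2 + f 2 % 2 + f 3 % 2 + f 4 % 2 + f 5 % 2) % 2 = 0 := by
  rw [Fin.prod_univ_six]
  simp only [← pow_add]
  rw [neg_one_pow_eq_one_iff_even (by decide), Nat.even_iff]

theorem inH_pcode {p : Perm (Fin 12)} (hA : p ∈ alternatingGroup (Fin 12)) (hp : p * z0 = z0 * p) :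
    inH (pcode p) = true := by
  simp only [inH, Bool.and_eq_true, beq_iff_eq, List.all_eq_true, bne_iff_ne, decide_eq_true_eq, List.mem_range]
  have hv : ∀ i < 6, ∀ h : 2 * i < 12, app (pcode p) (2 * i) = (p ⟨2 * i, h⟩).val := fun i _ h =>
    app_pcode p ⟨2 * i, h⟩
  refine ⟨⟨?_, fun i hi => ⟨?_, fun j hj e => ?_⟩⟩, ?_⟩
  · rw [range_six]
    simp only [List.map_cons, List.map_nil]
    rw [mkH_eq]
    conv_lhs => rw [pcode, ofFun]
    congr 1
    rw [hv 0 (by omega) (by omega), hv 1 (by omega) (by omega), hv 2 (by omega) (by omega),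
      hv 3 (by omega) (by omega), hv 4 (by omega) (by omega), hv 5 (by omega) (by omega)]
    have hx : ∀ k (hk : 2 * k + 1 < 12),
        (p ⟨2 * k + 1, hk⟩).val = Nat.xor (p ⟨2 * k, by omega⟩).val 1 := fun k hk => by
      have h0 : z0 ⟨2 * k, by omega⟩ = ⟨2 * k + 1, hk⟩ := by
        ext; rw [z0_apply, xor_one]
        simp
      rw [← h0, apply_xor hp]; rfl
    rw [← hx 0 (by omega), ← hx 1 (by omega), ← hx 2 (by omega), ← hx 3 (by omega), ← hx 4 (by omega),
      ← hx 5 (by omega)]
    rfl
  · rw [hv i hi (by omega)]; omega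
  · rw [hv i hi (by omega), hv j (by omega) (by omega)] at e
    rcases eq_or_ne ((p ⟨2 * i, by omega⟩).val % 2) ((p ⟨2 * j, by omega⟩).val % 2) with h2 | h2
    · have := congrArg Fin.val (p.injective (Fin.ext (a := p ⟨2 * i, by omega⟩) (b := p ⟨2 * j, by omega⟩)
        (by omega)))
      simp at this; omega
    · have h3 : (p (z0 ⟨2 * i, by omega⟩)).val = (p ⟨2 * j, by omega⟩).val := by
        rw [apply_xor hp, xor_one]
        omega
      have := congrArg Fin.val (p.injective (Fin.ext h3))
      rw [z0_apply] at this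
      simp at this
      interval_cases i <;> simp at this <;> omega
  · rw [range_six]
    simp only [List.map_cons, List.map_nil, List.sum_cons, List.sum_nil]
    have := (even_sum_iff fun i => (p ⟨2 * i.val, by omega⟩).val).1
      ((sign_eq hp).symm.trans (Perm.mem_alternatingGroup.1 hA))
    rw [hv 0 (by omega) (by omega), hv 1 (by omega) (by omega), hv 2 (by omega) (by omega),
      hv 3 (by omega) (by omega), hv 4 (by omega) (by omega), hv 5 (by omega) (by omega)]
    simp only [Fin.val_zero, Fin.val_one, Fin.val_two] at this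
    simpa [Nat.add_assoc] using this

/-- Every code is the code of an element of the centraliser. -/
theorem exists_of_mem {d : ℕ} (hd : inH d = true) :
    ∃ p : Perm (Fin 12), p ∈ alternatingGroup (Fin 12) ∧ p * z0 = z0 * p ∧ pcode p = d := by
  simp only [inH, Bool.and_eq_true, beq_iff_eq, List.all_eq_true, bne_iff_ne, decide_eq_true_eq,
    List.mem_range] at hd
  obtain ⟨⟨hmk, hl⟩, hpar⟩ := hd
  have hlt : ∀ i < 6, app d (2 * i) < 12 := fun i hi => (hl i hi).1
  have hx1 := xor_one
  have hev : ∀ i < 12, app d i = (app d (2 * (i / 2))) ^^^ (i % 2) := by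
    intro i hi
    conv_lhs => rw [hmk, range_six]
    simp only [List.map_cons, List.map_nil]
    rw [mkH_eq, app_ofList]
    · interval_cases i <;> simp <;> rfl
    · have := hlt 0 (by omega); have := hlt 1 (by omega); have := hlt 2 (by omega); have := hlt 3 (by omega)
      have := hlt 4 (by omega); have := hlt 5 (by omega)
      have hb : ∀ a, a < 12 → Nat.xor a 1 < 16 := fun a ha => by
        show a ^^^ 1 < 16
        rw [hx1]; omega
      simp only [List.mem_cons, List.not_mem_nil, or_false, forall_eq_or_imp, forall_eq]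
      exact ⟨by omega, hb _ ‹_›, by omega, hb _ ‹_›, by omega, hb _ ‹_›, by omega, hb _ ‹_›, by omega, hb _ ‹_›,
        by omega, hb _ ‹_›⟩
  let f : Fin 12 → Fin 12 := fun x => ⟨app d x.val, by
    rw [hev x.val x.2]
    have := hlt (x.val / 2) (by omega)
    rcases Nat.mod_two_eq_zero_or_one x.val with h | h <;> rw [h]
    · simpa using this
    · rw [hx1]; omega⟩
  have hinj : Function.Injective f := by
    intro x y h
    have h' : app d x.val = app d y.val := congrArg Fin.val h
    rw [hev x.val x.2, hev y.val y.2] at h'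
    rcases Nat.lt_trichotomy (x.val / 2) (y.val / 2) with h0 | h0 | h0
    · have := (hl (y.val / 2) (by omega)).2 (x.val / 2) h0
      rcases Nat.mod_two_eq_zero_or_one x.val with hx | hx <;>
        rcases Nat.mod_two_eq_zero_or_one y.val with hy | hy <;> rw [hx, hy] at h' <;>
        simp only [Nat.xor_zero, hx1] at h' <;> omega
    · rw [h0] at h'
      rcases Nat.mod_two_eq_zero_or_one x.val with hx | hx <;>
        rcases Nat.mod_two_eq_zero_or_one y.val with hy | hy <;> rw [hx, hy] at h' <;>
        simp only [Nat.xor_zero, hx1] at h' <;> exact Fin.ext (by omega)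
    · have := (hl (x.val / 2) (by omega)).2 (y.val / 2) h0
      rcases Nat.mod_two_eq_zero_or_one x.val with hx | hx <;>
        rcases Nat.mod_two_eq_zero_or_one y.val with hy | hy <;> rw [hx, hy] at h' <;>
        simp only [Nat.xor_zero, hx1] at h' <;> omega
  let p : Perm (Fin 12) := Equiv.ofBijective f (Finite.injective_iff_bijective.1 hinj)
  have hp : p * z0 = z0 * p := by
    refine Equiv.ext fun x => Fin.ext ?_
    rw [Perm.mul_apply, Perm.mul_apply, z0_apply]
    show app d (z0 x).val = app d x.val ^^^ 1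
    rw [z0_apply, hev x.val x.2, hev (x.val ^^^ 1) (by rw [hx1]; omega), Nat.xor_assoc]
    congr 1
    · congr 2
      rw [hx1]; omega
    · fin_cases x <;> rfl
  have hcode : pcode p = d := by
    have : d = ofFun fun i => app d i := by
      conv_lhs => rw [hmk, range_six]
      simp only [List.map_cons, List.map_nil]
      rw [mkH_eq, ofFun]
      congr 1
      simp only [show List.range 12 = [0, 1, 2, 3, 4, 5, 6, 7, 8, 9, 10, 11] from rfl, List.map_cons, List.map_nil]
      rw [hev 1 (by omega), hev 3 (by omega), hev 5 (by omega), hev 7 (by omega), hev 9 (by omega),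
        hev 11 (by omega)]
      rfl
    conv_rhs => rw [this]
    exact ofFun_congr fun i hi => by rw [dif_pos hi]; rfl
  refine ⟨p, ?_, hp, hcode⟩
  rw [Perm.mem_alternatingGroup, sign_eq hp, even_sum_iff]
  rw [range_six] at hpar
  simp only [List.map_cons, List.map_nil, List.sum_cons, List.sum_nil] at hpar
  show (app d (2 * 0) % 2 + app d (2 * 1) % 2 + app d (2 * 2) % 2 + app d (2 * 3) % 2 + app d (2 * 4) % 2 +
    app d (2 * 5) % 2) % 2 = 0
  omega

/-- A coding of the centraliser of `z`. -/
structure Coding {G : Type*} [Group G] (z : G) where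
  f : G → ℕ
  mem : ∀ a, Commute a z → inH (f a) = true
  map_mul : ∀ a b, Commute a z → Commute b z → f (a * b) = mul (f a) (f b)
  inj : ∀ a b, Commute a z → Commute b z → f a = f b → a = b
  surj : ∀ d, inH d = true → ∃ a, Commute a z ∧ f a = d
  map_z : f z = zc

namespace Coding

variable {G : Type*} [Group G] {z : G}

theorem mem_elts' (c : Coding z) {a : G} (ha : Commute a z) : c.f a ∈ elts := mem_elts (c.mem a ha)

theorem eq_iff (c : Coding z) {a b : G} (ha : Commute a z) (hb : Commute b z) :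
    c.f a = c.f b ↔ a = b := ⟨c.inj a b ha hb, fun h => h ▸ rfl⟩

theorem comm_iff (c : Coding z) {a b : G} (ha : Commute a z) (hb : Commute b z) :
    comm (c.f a) (c.f b) = true ↔ Commute a b := by
  rw [comm, beq_iff_eq, ← c.map_mul a b ha hb, ← c.map_mul b a hb ha,
    c.eq_iff (ha.mul_left hb) (hb.mul_left ha)]
  rfl

theorem map_one (c : Coding z) : c.f 1 = one := by
  obtain ⟨a, ha, hd⟩ := c.surj one (by decide +kernel)
  have h := c.map_mul a a ha ha
  rw [hd, show mul one one = one by decide +kernel, ← hd, c.eq_iff (ha.mul_left ha) ha] at h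
  rw [← hd, show a = 1 from mul_eq_left.1 h]

theorem sq_eq_iff (c : Coding z) {a b : G} (ha : Commute a z) (hb : Commute b z) :
    (mul (c.f a) (c.f a) == c.f b) = true ↔ a * a = b := by
  rw [beq_iff_eq, ← c.map_mul a a ha ha, c.eq_iff (ha.mul_left ha) hb]

theorem isInv_iff (c : Coding z) {a : G} (ha : Commute a z) :
    isInv (c.f a) = true ↔ orderOf a = 2 := by
  rw [orderOf_eq_prime_iff, pow_two, isInv, Bool.and_eq_true, ← c.map_one,
    c.sq_eq_iff ha (Commute.one_left z), bne_iff_ne, Ne, c.eq_iff ha (Commute.one_left z)]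
  exact and_comm

theorem orderOf_z (c : Coding z) : orderOf z = 2 := by
  rw [← c.isInv_iff (Commute.refl z), c.map_z]
  decide +kernel

theorem conj_code (c : Coding z) {a b e : G} (ha : Commute a z) (hb : Commute b z) (he : Commute e z)
    (h : mul (c.f a) (c.f b) = mul (c.f e) (c.f a)) : a * b * a⁻¹ = e := by
  rw [← c.map_mul a b ha hb, ← c.map_mul e a he ha, c.eq_iff (ha.mul_left hb) (he.mul_left ha)] at h
  rw [h, mul_inv_cancel_right]

end Coding

/-- The coding of the centraliser in `A₁₂`. -/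
theorem coding_z0 (u : alternatingGroup (Fin 12)) (hu : (u : Perm (Fin 12)) = z0) : Nonempty (Coding u) := by
  have hc : ∀ {a : alternatingGroup (Fin 12)}, Commute a u → (a : Perm (Fin 12)) * z0 = z0 * a := fun h => by
    rw [← hu, ← Subgroup.coe_mul, ← Subgroup.coe_mul, h.eq]
  refine ⟨⟨fun a => pcode a, fun a ha => inH_pcode a.2 (hc ha), fun a b _ _ => pcode_mul _ _,
    fun a b _ _ h => Subtype.ext (pcode_inj h), fun d hd => ?_, by rw [hu]; exact pcode_z0⟩⟩
  obtain ⟨p, hA, hp, rfl⟩ := exists_of_mem hd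
  exact ⟨⟨p, hA⟩, Subtype.ext (by rw [Subgroup.coe_mul, Subgroup.coe_mul, hu]; exact hp), rfl⟩

end Cfsg.Agent.AltTwelveCent
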