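import Cfsg.Agent.Lib.AltTwelveCent.Basic
import Cfsg.Agent.Lib.AltTwelveCent.CheckScan
import Cfsg.Agent.Lib.AltTwelveCent.CheckFusion
import Mathlib.Algebra.Group.Conj

/-
The classes of the centraliser and the five patterns of fusion.

* `exists_class` : the ten classes of involutions
* `not_root` : `z` is no square in its centraliser
* `Pattern`, `exists_pattern` : the five possibilities
* `isConj_w_iff` : the fused members of `W`
-/

set_option autoImplicit false

namespace Cfsg.Agent.AltTwelveCent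

theorem repIdx_lt : ∀ j < 10, repIdx.getD j 0 < 64 := by decide +kernel

theorem wclass_lt : ∀ i < 64, i ≠ 0 → wclass.getD i 0 < 10 := by decide +kernel

theorem repIdx_class : ∀ j < 10, wclass.getD (repIdx.getD j 0) 0 = j := by decide +kernel

namespace Coding

variable {G : Type*} [Group G] {z : G} (c : Coding z)
include c

/-- The representative of a class. -/
noncomputable def rep (j : ℕ) : G := c.w (repIdx.getD j 0)

theorem rep_mem {j : ℕ} (hj : j < 10) : c.rep j ∈ c.wgp := ⟨_, repIdx_lt j hj, rfl⟩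

theorem rep_two : c.rep 2 = z := by
  rw [rep, show repIdx.getD 2 0 = 21 from rfl, c.w_z]

/-- Conjugate to a representative inside the centraliser. -/
def InCls (j : ℕ) (a : G) : Prop := ∃ h, Commute h z ∧ h * c.rep j * h⁻¹ = a

theorem InCls.isConj {j : ℕ} {a : G} (h : c.InCls j a) : IsConj (c.rep j) a :=
  isConj_iff.2 ⟨h.choose, h.choose_spec.2⟩

theorem inCls_of_code {j : ℕ} (hj : j < 10) {a : G} (ha : Commute a z) (h : inClass j (c.f a) = true) :
    c.InCls j a := by
  obtain ⟨p, hp, he⟩ := List.any_eq_true.1 h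
  rw [beq_iff_eq] at he
  have := List.all_eq_true.1 check_classData j (List.mem_range.2 hj)
  have := List.all_eq_true.1 this p hp
  simp only [Bool.and_eq_true, beq_iff_eq] at this
  obtain ⟨⟨hg, hm⟩, -⟩ := this
  refine ⟨c.el p.2, c.el_comm _, ?_⟩
  rw [rep, w, c.el_conj hg (wlist_facts (wlist_getD_mem (repIdx_lt j hj))).1 (he ▸ c.mem a ha) hm, he, c.el_f ha]

/-- The ten classes of involutions. -/
theorem exists_class {a : G} (ha : Commute a z) (h2 : orderOf a = 2) : ∃ j < 10, c.InCls j a := by
  have h := List.all_eq_true.1 check_scan _ (c.mem_elts' ha)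
  simp only [scanOK, Bool.and_eq_true, Bool.or_eq_true, bne_iff_ne, beq_iff_eq] at h
  obtain ⟨-, h⟩ := h
  have hi := (c.isInv_iff ha).2 h2
  simp only [isInv, Bool.and_eq_true, beq_iff_eq, bne_iff_ne] at hi
  rcases h with (h | h) | h
  · exact absurd hi.2 h
  · exact absurd h hi.1
  · obtain ⟨L, hL, hp⟩ := List.any_eq_true.1 h
    obtain ⟨j, hj, rfl⟩ := List.getElem_of_mem hL
    have hj' : j < 10 := hj
    refine ⟨j, hj', c.inCls_of_code hj' ha ?_⟩
    rw [inClass, List.getD_eq_getElem _ _ hj]; exact hp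

/-- `z` is no square in its centraliser. -/
theorem not_root {a : G} (ha : Commute a z) : a * a ≠ z := by
  intro e
  have h := List.all_eq_true.1 check_scan _ (c.mem_elts' ha)
  simp only [scanOK, Bool.and_eq_true, bne_iff_ne] at h
  refine h.1 ?_
  rw [← c.map_mul a a ha ha, e, c.map_z]

/-- The classes 0, 1 and 6 are not fused to that of `z`. -/
theorem not_isConj_square {j : ℕ} (hj : j = 0 ∨ j = 1 ∨ j = 6) : ¬ IsConj z (c.rep j) := by
  intro h
  obtain ⟨g, hg⟩ := isConj_iff.1 h
  have hj' : j < 10 := by omega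
  have hmem : ∃ d, (j, d) ∈ rootData := by
    rcases hj with rfl | rfl | rfl <;> exact ⟨_, by simp [rootData]; rfl⟩
  obtain ⟨d, hd⟩ := hmem
  have := List.all_eq_true.1 check_roots _ hd
  simp only [Bool.and_eq_true, beq_iff_eq] at this
  obtain ⟨hdH, hdsq⟩ := this
  have hsq : c.el d * c.el d = c.rep j := by rw [← c.el_mul hdH hdH, hdsq]; rfl
  refine c.not_root (a := g⁻¹ * c.el d * g) ?_ ?_
  · have h1 : Commute (c.el d) (g * z * g⁻¹) := by
      rw [hg, ← hsq]; exact (Commute.refl _).mul_right (Commute.refl _)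
    have := (Commute.conj_iff g⁻¹).2 h1
    simpa [mul_assoc] using this
  · calc g⁻¹ * c.el d * g * (g⁻¹ * c.el d * g) = g⁻¹ * (c.el d * c.el d) * g := by group
      _ = z := by rw [hsq, ← hg]; group

theorem inCls_w {i : ℕ} (hi : i < 64) (h0 : i ≠ 0) : c.InCls (wclass.getD i 0) (c.w i) := by
  have h := List.all_eq_true.1 check_wclass i (List.mem_range.2 hi)
  rw [Bool.or_eq_true] at h
  refine c.inCls_of_code (wclass_lt i hi h0) (c.w_comm i) ?_
  rw [w, (c.el_spec (wlist_facts (wlist_getD_mem hi)).1).2]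
  exact h.resolve_left fun e => h0 (beq_iff_eq.1 e)

/-- The fusion of `z` in its centraliser follows the pattern `f`. -/
def Pattern (f : ℕ) : Prop := ∀ j < 10, IsConj z (c.rep j) ↔ fused f j = true

theorem isConj_w_iff {f : ℕ} (hf : c.Pattern f) {i : ℕ} (hi : i < 64) :
    IsConj z (c.w i) ↔ i ≠ 0 ∧ fused f (wclass.getD i 0) = true := by
  by_cases h0 : i = 0
  · subst h0
    rw [c.w_zero, isConj_one_left]
    refine ⟨fun h => ?_, fun h => absurd rfl h.1⟩
    have := c.orderOf_z
    rw [h, orderOf_one] at this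
    omega
  · rw [and_iff_right h0, ← hf _ (wclass_lt i hi h0)]
    have hc : IsConj (c.rep (wclass.getD i 0)) (c.w i) := (c.inCls_w hi h0).isConj
    exact ⟨fun h => h.trans hc.symm, fun h => h.trans hc⟩

/-- The permutation of the numbers induced by an element normalising `W`. -/
theorem exists_index_perm {n : G} (hn : c.wgp.map (MulAut.conj n).toMonoidHom = c.wgp) :
    ∃ π : Fin 64 ≃ Fin 64, (∀ a, c.w (π a) = n * c.w a * n⁻¹) ∧
      ∀ a b : Fin 64, ∀ h : a.val ^^^ b.val < 64, (π ⟨a.val ^^^ b.val, h⟩).val = (π a).val ^^^ (π b).val := by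
  have hex : ∀ a : Fin 64, ∃ b : Fin 64, c.w b = n * c.w a * n⁻¹ := fun a => by
    have : n * c.w a * n⁻¹ ∈ c.wgp := hn ▸ ⟨c.w a, ⟨a, a.2, rfl⟩, rfl⟩
    obtain ⟨i, hi, e⟩ := this
    exact ⟨⟨i, hi⟩, e⟩
  choose π hπ using hex
  have hinj : Function.Injective π := fun a b h => Fin.ext (c.w_inj a.2 b.2 (by
    have := (hπ a).symm.trans ((congrArg (fun x : Fin 64 => c.w x) h).trans (hπ b))
    simpa using this))
  refine ⟨Equiv.ofBijective π (Finite.injective_iff_bijective.1 hinj), hπ, fun a b h => ?_⟩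
  refine c.w_inj (Fin.is_lt _) (Nat.xor_lt_two_pow (n := 6) (Fin.is_lt _) (Fin.is_lt _)) ?_
  rw [← c.w_mul (Fin.is_lt _) (Fin.is_lt _)]
  show c.w (π ⟨_, h⟩) = c.w (π a) * c.w (π b)
  rw [hπ, hπ, hπ]
  show n * c.w (a.val ^^^ b.val) * n⁻¹ = _
  rw [← c.w_mul a.2 b.2]
  group

/-- Is the number in the pattern? -/
def inO (f i : ℕ) : Bool := inMask (omask f) i

end Coding

theorem inMask_omask : ∀ f < 64, ∀ i < 64, inMask (omask f) i = (i != 0 && fused f (wclass.getD i 0)) := by
  decide +kernel

theorem check_wclass_zero : wclass.getD 21 0 = 2 := by decide +kernel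

namespace Coding

variable {G : Type*} [Group G] {z : G} (c : Coding z)
include c

theorem inMask_iff {f : ℕ} (hf64 : f < 64) (hf : c.Pattern f) {i : ℕ} (hi : i < 64) :
    inMask (omask f) i = true ↔ IsConj z (c.w i) := by
  rw [inMask_omask f hf64 i hi, Bool.and_eq_true, bne_iff_ne, c.isConj_w_iff hf hi]

theorem olist_toFinset (m : ℕ) : (olist m).toFinset = (Finset.range 64).filter fun a => inMask m a = true := by
  ext a
  simp [olist]

theorem pairsAt_eq (m x : ℕ) : pairsAt m x =
    ((Finset.univ : Finset (Fin 64)).filter fun a : Fin 64 => inMask m a = true ∧ inMask m (a.val ^^^ x) = true).card := by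
  rw [pairsAt, olist, ← List.toFinset_card_of_nodup ((List.nodup_range.filter _).filter _)]
  refine (Finset.card_nbij (fun a : Fin 64 => a.val) ?_ ?_ ?_).symm
  · intro a ha
    simp only [Finset.coe_filter, Finset.mem_univ, true_and, Set.mem_ofPred_eq] at ha
    simp [ha]
  · exact fun a _ b _ h => Fin.ext h
  · intro a ha
    simp at ha
    exact ⟨⟨a, ha.1⟩, by simp [ha], rfl⟩

theorem triplesAt_eq (m x : ℕ) : triplesAt m x =
    ∑ a ∈ (Finset.univ : Finset (Fin 64)).filter (fun a : Fin 64 => inMask m a = true), pairsAt m (a.val ^^^ x) := by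
  rw [triplesAt, olist, ← List.sum_toFinset _ (List.nodup_range.filter _)]
  refine (Finset.sum_nbij (fun a : Fin 64 => a.val) ?_ ?_ ?_ ?_).symm
  · intro a ha
    simp only [Finset.mem_filter, Finset.mem_univ, true_and] at ha
    simp [ha]
  · exact fun a _ b _ h => Fin.ext h
  · intro a ha
    simp at ha
    exact ⟨⟨a, ha.1⟩, by simp [ha], rfl⟩
  · exact fun a _ => rfl

/-- The counts are invariant under fusion. -/
theorem counts_eq [Finite G] (hodd : ¬ 2 ∣ (Subgroup.centralizer ({z} : Set G)).index) {f : ℕ} (hf64 : f < 64)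
    (hf : c.Pattern f) {x : ℕ} (hx : x < 64) (hxc : IsConj z (c.w x)) :
    pairsAt (omask f) x = pairsAt (omask f) 21 ∧ triplesAt (omask f) x = triplesAt (omask f) 21 := by
  obtain ⟨g, hg⟩ := isConj_iff.1 hxc
  obtain ⟨n, hn, he⟩ := c.exists_normalizer_conj hodd (g := g) (u := z) (⟨21, by norm_num, c.w_z⟩)
    (hg ▸ ⟨x, hx, rfl⟩)
  rw [hg] at he
  obtain ⟨π, hπ, hadd⟩ := c.exists_index_perm hn
  set m := omask f
  have hO : ∀ a : Fin 64, inMask m (π a) = inMask m a := fun a => by
    rw [Bool.eq_iff_iff, c.inMask_iff hf64 hf (π a).2, c.inMask_iff hf64 hf a.2, hπ]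
    exact ⟨fun h => h.trans (isConj_iff.2 ⟨n, rfl⟩).symm, fun h => h.trans (isConj_iff.2 ⟨n, rfl⟩)⟩
  have h21 : (π ⟨21, by norm_num⟩).val = x := c.w_inj (Fin.is_lt _) hx (by rw [hπ, c.w_z, he])
  have key : ∀ y : Fin 64, pairsAt m (π y) = pairsAt m y := fun y => by
    rw [pairsAt_eq c, pairsAt_eq c]
    refine (Finset.card_equiv π fun a => ?_).symm
    simp only [Finset.mem_filter, Finset.mem_univ, true_and]
    rw [hO a, ← hadd a y (Nat.xor_lt_two_pow (n := 6) a.2 y.2), hO]
  refine ⟨by rw [← h21]; exact key _, ?_⟩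
  rw [← h21, triplesAt_eq c, triplesAt_eq c]
  refine (Finset.sum_equiv π (fun a => ?_) fun a _ => ?_).symm
  · simp only [Finset.mem_filter, Finset.mem_univ, true_and]
    rw [hO]
  · have h := hadd a ⟨21, by norm_num⟩ (Nat.xor_lt_two_pow (n := 6) a.2 (by norm_num))
    simp only at h
    rw [← h]
    exact (key ⟨a.val ^^^ 21, _⟩).symm

/-- The five patterns. -/
theorem exists_pattern [Finite G] (hodd : ¬ 2 ∣ (Subgroup.centralizer ({z} : Set G)).index) :
    ∃ f ∈ [0, 1, 4, 57, 60], c.Pattern f := by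
  classical
  let b : ℕ → Prop := fun j => IsConj z (c.rep j)
  let g : ℕ → ℕ := fun k => if b (openClasses.getD k 0) then 1 else 0
  let f := g 0 + 2 * g 1 + 4 * g 2 + 8 * g 3 + 16 * g 4 + 32 * g 5
  have hg : ∀ k, g k ≤ 1 := fun k => by simp only [g]; split <;> omega
  have hf64 : f < 64 := by
    have := hg 0; have := hg 1; have := hg 2; have := hg 3; have := hg 4; have := hg 5
    simp only [f]; omega
  have hbit : ∀ k < 6, ((f >>> k) &&& 1 == 1) = decide (b (openClasses.getD k 0)) := by
    intro k hk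
    have e : ((f >>> k) &&& 1 == 1) = decide (g k = 1) := by
      rw [Nat.shiftRight_eq_div_pow, Nat.and_one_is_mod, beq_eq_decide]
      have := hg 0; have := hg 1; have := hg 2; have := hg 3; have := hg 4; have := hg 5
      refine decide_eq_decide.2 ?_
      simp only [f]
      interval_cases k <;> norm_num <;> omega
    rw [e]
    refine decide_eq_decide.2 ?_
    show (if b (openClasses.getD k 0) then 1 else 0) = 1 ↔ b (openClasses.getD k 0)
    split_ifs with h <;> simp only [h, iff_true, zero_ne_one]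
  have hf : c.Pattern f := by
    intro j hj
    rcases (show j = 2 ∨ j = 0 ∨ j = 1 ∨ j = 6 ∨ ∃ k < 6, openClasses.getD k 0 = j from by
      interval_cases j <;> first
        | exact Or.inl rfl
        | exact Or.inr (Or.inl rfl)
        | exact Or.inr (Or.inr (Or.inl rfl))
        | exact Or.inr (Or.inr (Or.inr (Or.inl rfl)))
        | exact Or.inr (Or.inr (Or.inr (Or.inr (by decide)))))
      with rfl | h | h | h | ⟨k, hk, rfl⟩
    · rw [c.rep_two]
      exact iff_of_true (IsConj.refl z) (by simp [fused])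
    iterate 3
      refine iff_of_false (c.not_isConj_square (by omega)) ?_
      subst h
      simp [fused, openClasses]
    have h2 : openClasses.contains (openClasses.getD k 0) = true ∧ (openClasses.getD k 0 == 2) = false ∧
        openClasses.idxOf (openClasses.getD k 0) = k := by
      revert k; decide
    rw [fused, h2.1, h2.2.1, h2.2.2, Bool.false_or, Bool.true_and, hbit k hk, decide_eq_true_iff]
  refine ⟨f, ?_, hf⟩
  have hp : patternOK f = true := by
    simp only [patternOK, Bool.and_eq_true, List.all_eq_true, Bool.or_eq_true, Bool.not_eq_true', beq_iff_eq]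
    have key : ∀ j ∈ openClasses, fused f j = false ∨
        (pairsAt (omask f) (repIdx.getD j 0) = pairsAt (omask f) 21 ∧
          triplesAt (omask f) (repIdx.getD j 0) = triplesAt (omask f) 21) := by
      intro j hj
      by_cases h : fused f j = true
      · have hj' : j < 10 := (show ∀ j ∈ openClasses, j < 10 by decide) j hj
        exact Or.inr (c.counts_eq hodd hf64 hf (repIdx_lt j hj') ((hf j hj').2 h))
      · exact Or.inl (Bool.eq_false_iff.2 h)
    exact ⟨fun j hj => (key j hj).imp id And.left, fun j hj => (key j hj).imp id And.right⟩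
  have h := List.all_eq_true.1 check_patterns f (List.mem_range.2 hf64)
  rw [hp] at h
  simpa using h

end Coding

end Cfsg.Agent.AltTwelveCent
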