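import Cfsg.Agent.Lib.AltTwelveCent.Twist
import Cfsg.Agent.Lib.ZStar.Unique
import Cfsg.Agent.Lib.ZStar.Statements
import Cfsg.Agent.Lib.Bender.ModuleOddCore
import Cfsg.Prelude.Def_CaseTheorems

/-
The case without fusion: `G = O(G) C(z)` and `O(G)` is abelian.

* `pairs_trivial` : the flips are their own centraliser
* `isolated_case` : the conclusion
-/

set_option autoImplicit false

namespace Cfsg.Agent.AltTwelveCent

open Equiv

set_option maxHeartbeats 400000

theorem pcode_one : pcode 1 = one := by decide +kernel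

attribute [local irreducible] pcode AltTwelveCent.mul ofFun one zc inH

/-- The flip of the two pairs. -/
def flip2 (i j : Fin 6) : Perm (Fin 12) :=
  swap ⟨2 * i.val, by omega⟩ ⟨2 * i.val + 1, by omega⟩ * swap ⟨2 * j.val, by omega⟩ ⟨2 * j.val + 1, by omega⟩

theorem flip2_facts : ∀ i j : Fin 6, i ≠ j → Perm.sign (flip2 i j) = 1 ∧ flip2 i j * z0 = z0 * flip2 i j ∧
    (∀ k, pairImg (flip2 i j) k = k) ∧ flip2 i j ⟨2 * i.val, by omega⟩ = ⟨2 * i.val + 1, by omega⟩ ∧
    ∀ x : Fin 12, x.val / 2 ≠ i.val → x.val / 2 ≠ j.val → flip2 i j x = x := by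
  decide +kernel

/-- Fixing each pair, the square is trivial. -/
theorem sq_of_pairs_trivial {p : Perm (Fin 12)} (hp : p * z0 = z0 * p) (h : ∀ k, pairImg p k = k) : p * p = 1 := by
  refine Equiv.ext fun x => Fin.ext ?_
  rw [Perm.mul_apply, Perm.one_apply]
  have h1 : ∀ y : Fin 12, (p y).val / 2 = y.val / 2 := fun y => by rw [pairImg_div hp, h]
  by_cases hx : p x = x
  · rw [hx, hx]
  · have hval : (p x).val ≠ x.val := fun e => hx (Fin.ext e)
    have hpp : (p (p x)).val ≠ (p x).val := fun e => hx (p.injective (Fin.ext e))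
    have := h1 x
    have := h1 (p x)
    omega

/-- The flips are their own centraliser. -/
theorem pairs_trivial {p : Perm (Fin 12)} (hp : p * z0 = z0 * p)
    (h : ∀ i j : Fin 6, i ≠ j → p * flip2 i j = flip2 i j * p) : ∀ k, pairImg p k = k := by
  have key : ∀ i j : Fin 6, i ≠ j → pairImg p i = i ∨ pairImg p i = j := by
    intro i j hij
    by_contra hno
    push_neg at hno
    obtain ⟨-, -, -, hmove, hfix⟩ := flip2_facts i j hij
    have e := congrArg (fun f : Perm (Fin 12) => f ⟨2 * i.val, by omega⟩) (h i j hij)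
    simp only [Perm.mul_apply] at e
    rw [hmove, hfix (p ⟨2 * i.val, by omega⟩) (fun e' => hno.1 (Fin.ext e')) (fun e' => hno.2 (Fin.ext e'))] at e
    have := congrArg Fin.val (p.injective e)
    simp at this
  intro i
  have hex : ∀ i : Fin 6, ∃ j k : Fin 6, i ≠ j ∧ i ≠ k ∧ j ≠ k := by decide
  obtain ⟨j, k, hij, hik, hjk⟩ := hex i
  rcases key i j hij with hj | hj
  · exact hj
  · rcases key i k hik with hk | hk
    · exact hk
    · exact absurd (hj.symm.trans hk) hjk

theorem core_central {G : Type*} [Group G] [Finite G] {z : G} (hz : orderOf z = 2)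
    (hiso : Cfsg.IsIsolatedInvolution z) :
    Cfsg.oddCore G ⊔ Subgroup.centralizer ({z} : Set G) = ⊤ := by
  rw [eq_top_iff]
  intro g _
  set O := Cfsg.oddCore G
  haveI : O.Normal := Cores.pPrimeCore_normal 2 G
  set u := g * z * g⁻¹ * z⁻¹ with hudef
  set w := g * z * g⁻¹
  have hu : u ∈ O := by
    have h := ZStar.zStar_of_brauerSuzuki ZStar.uniqueInvolution hiso g
    rw [hudef, show w * z⁻¹ = (z * g * z⁻¹ * g⁻¹)⁻¹ by simp only [w]; group]
    exact inv_mem h
  obtain ⟨i, hi⟩ : Odd (orderOf u) :=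
    (Nat.coprime_two_right.1 (Cores.coprime_card_pPrimeCore 2)).of_dvd_nat (Subgroup.orderOf_dvd_natCard O hu)
  have hzz : z * z = 1 := by rw [← pow_two, ← hz, pow_orderOf_eq_one]
  have hww : w * w = 1 := by
    show g * z * g⁻¹ * (g * z * g⁻¹) = 1
    rw [show g * z * g⁻¹ * (g * z * g⁻¹) = g * (z * z) * g⁻¹ by group, hzz, mul_one, mul_inv_cancel]
  have hzi : z⁻¹ = z := inv_eq_of_mul_eq_one_right hzz
  have huw : u = w * z := by rw [hudef, hzi]
  have hinv : z * u * z⁻¹ = u⁻¹ := by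
    rw [huw, mul_inv_rev, hzi, inv_eq_of_mul_eq_one_right hww, ← mul_assoc z w z, mul_assoc,
      hzz, mul_one]
  have hpow : z * u ^ (i + 1) * z⁻¹ = (u ^ (i + 1))⁻¹ := by rw [← conj_pow, hinv, inv_pow]
  have h1 : u ^ (i + 1) * z * (u ^ (i + 1))⁻¹ = w := by
    calc u ^ (i + 1) * z * (u ^ (i + 1))⁻¹ = u ^ (i + 1) * (z * (u ^ (i + 1))⁻¹ * z⁻¹) * z := by group
      _ = u ^ (i + 1) * (z * u ^ (i + 1) * z⁻¹)⁻¹ * z := by group
      _ = u ^ (2 * i + 1) * u * z := by
        rw [hpow, inv_inv, ← pow_add, ← pow_succ]; congr 2; omega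
      _ = w := by rw [← hi, pow_orderOf_eq_one, one_mul, huw, mul_assoc, hzz, mul_one]
  have hc : (u ^ (i + 1))⁻¹ * g ∈ Subgroup.centralizer ({z} : Set G) := by
    rw [Subgroup.mem_centralizer_singleton_iff]
    calc (u ^ (i + 1))⁻¹ * g * z = (u ^ (i + 1))⁻¹ * (g * z * g⁻¹) * g := by group
      _ = (u ^ (i + 1))⁻¹ * w * g := rfl
      _ = (u ^ (i + 1))⁻¹ * (u ^ (i + 1) * z * (u ^ (i + 1))⁻¹) * g := by rw [h1]
      _ = z * ((u ^ (i + 1))⁻¹ * g) := by group
  rw [← mul_inv_cancel_left (u ^ (i + 1)) g]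
  exact mul_mem (Subgroup.mem_sup_left (pow_mem hu _)) (Subgroup.mem_sup_right hc)

variable {G : Type*} [Group G] {z : G}

namespace Coding

/-- An element of odd order of the centraliser whose conjugates by flips differ by odd elements is trivial. -/
theorem eq_one_of_odd_normal (c : Coding z) (R : Subgroup G) (hR : ∀ r ∈ R, Commute r z)
    (hodd : ∀ r ∈ R, Odd (orderOf r)) (hn : ∀ r ∈ R, ∀ e, Commute e z → e * r * e⁻¹ ∈ R) : R = ⊥ := by
  rw [Subgroup.eq_bot_iff_forall]
  have hsq : ∀ r ∈ R, r * r = 1 → r = 1 := fun r hr h => by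
    obtain ⟨k, hk⟩ := hodd r hr
    have h1 := pow_orderOf_eq_one r
    rw [hk, pow_succ, pow_mul, pow_two, h, one_pow, one_mul] at h1
    exact h1
  intro r hr
  obtain ⟨p, -, hp, hpc⟩ := exists_of_mem (c.mem r (hR r hr))
  have hcomm : ∀ i j : Fin 6, i ≠ j → p * flip2 i j = flip2 i j * p := by
    intro i j hij
    obtain ⟨hs, hfz, hfp, -, -⟩ := flip2_facts i j hij
    set fl := flip2 i j
    obtain ⟨e, he, hec⟩ := c.surj _ (inH_pcode (Perm.mem_alternatingGroup.2 hs) hfz)
    -- the commutator fixes each pair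
    set k := r * e * r⁻¹ * e⁻¹ with hk
    have hkR : k ∈ R := by
      rw [hk, show r * e * r⁻¹ * e⁻¹ = r * (e * r⁻¹ * e⁻¹) by group]
      exact R.mul_mem hr (hn _ (R.inv_mem hr) e he)
    have hpinv : p⁻¹ * z0 = z0 * p⁻¹ := by
      calc p⁻¹ * z0 = p⁻¹ * (z0 * p) * p⁻¹ := by group
        _ = z0 * p⁻¹ := by rw [← hp]; group
    have hfinv : fl⁻¹ * z0 = z0 * fl⁻¹ := by
      calc fl⁻¹ * z0 = fl⁻¹ * (z0 * fl) * fl⁻¹ := by group
        _ = z0 * fl⁻¹ := by rw [← hfz]; group
    have hq : (p * fl * p⁻¹ * fl⁻¹) * z0 = z0 * (p * fl * p⁻¹ * fl⁻¹) :=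
      (((Commute.mul_left hp hfz).mul_left hpinv).mul_left hfinv).eq
    have hqp : ∀ m, pairImg (p * fl * p⁻¹ * fl⁻¹) m = m := fun m => by
      have hfi : ∀ m, pairImg fl⁻¹ m = m := fun m => by
        have h1 := pairImg_mul (p := fl) (q := fl⁻¹) hfz m
        rw [mul_inv_cancel, hfp] at h1
        rw [← h1]
        exact Fin.ext (by show (2 * m.val) / 2 = m.val; omega)
      rw [pairImg_mul ((Commute.mul_left hp hfz).mul_left hpinv).eq, hfi, pairImg_mul (Commute.mul_left hp hfz).eq,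
        pairImg_mul hp, hfp, ← pairImg_mul hp, mul_inv_cancel]
      exact Fin.ext (by show (2 * m.val) / 2 = m.val; omega)
    have hri : Commute r⁻¹ z := (hR r hr).inv_left
    have hkcode : c.f k = pcode (p * fl * p⁻¹ * fl⁻¹) := by
      have hinv : ∀ {x : G} {q : Perm (Fin 12)}, Commute x z → q ∈ alternatingGroup (Fin 12) →
          q * z0 = z0 * q → q⁻¹ * z0 = z0 * q⁻¹ → c.f x = pcode q → c.f x⁻¹ = pcode q⁻¹ := by
        intro x q hx hqA hqz hqz' hxq
        obtain ⟨y, hy, hyc⟩ := c.surj _ (inH_pcode (inv_mem hqA) hqz')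
        have h1 : c.f (x * y) = c.f 1 := by
          rw [c.map_mul x y hx hy, hxq, hyc, ← pcode_mul, mul_inv_cancel, c.map_one, pcode_one]
        rw [show x⁻¹ = y from inv_eq_of_mul_eq_one_right ((c.eq_iff (hx.mul_left hy) (Commute.one_left z)).1 h1),
          hyc]
      have hpA : p ∈ alternatingGroup (Fin 12) := by
        obtain ⟨p', hA', -, hp'⟩ := exists_of_mem (c.mem r (hR r hr))
        rwa [pcode_inj (hpc.trans hp'.symm)]
      rw [hk, c.map_mul _ _ (((hR r hr).mul_left he).mul_left hri) he.inv_left,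
        c.map_mul _ _ ((hR r hr).mul_left he) hri, c.map_mul _ _ (hR r hr) he, hec,
        hinv (hR r hr) hpA hp hpinv hpc.symm, hinv he (Perm.mem_alternatingGroup.2 hs) hfz hfinv hec, ← hpc,
        pcode_mul, pcode_mul, pcode_mul]
    have hk2 : k * k = 1 := by
      refine (c.eq_iff ((hR k hkR).mul_left (hR k hkR)) (Commute.one_left z)).1 ?_
      rw [c.map_mul k k (hR k hkR) (hR k hkR), hkcode, ← pcode_mul, sq_of_pairs_trivial hq hqp, c.map_one, pcode_one]
    have hk1 := hsq k hkR hk2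
    rw [hk, mul_inv_eq_one, mul_inv_eq_iff_eq_mul] at hk1
    refine pcode_inj ?_
    rw [pcode_mul, pcode_mul, hpc, ← hec, ← c.map_mul r e (hR r hr) he, ← c.map_mul e r he (hR r hr), hk1]
  refine hsq r hr ((c.eq_iff ((hR r hr).mul_left (hR r hr)) (Commute.one_left z)).1 ?_)
  rw [c.map_mul r r (hR r hr) (hR r hr), ← hpc, ← pcode_mul, sq_of_pairs_trivial hp (pairs_trivial hp hcomm),
    c.map_one, pcode_one]

/-- No fusion: the last case of the conclusion. -/
theorem isolated_case [Finite G] (c : Coding z) (hpat : c.Pattern 0) :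
    Cfsg.oddCore G ⊔ Subgroup.centralizer ({z} : Set G) = ⊤ ∧ IsMulCommutative ↥(Cfsg.oddCore G) := by
  have hz := c.orderOf_z
  have hiso : Cfsg.IsIsolatedInvolution z := by
    refine ⟨hz, fun g hg => ?_⟩
    have ho : orderOf (g * z * g⁻¹) = 2 := by
      rw [← hz]; exact orderOf_injective (MulAut.conj g).toMonoidHom (MulEquiv.injective _) z
    obtain ⟨j, hj, hcls⟩ := c.exists_class hg.symm ho
    have h2 : fused 0 j = true := (hpat j hj).1 ((isConj_iff.2 ⟨g, rfl⟩).trans hcls.isConj.symm)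
    have hj2 : j = 2 := (show ∀ j < 10, fused 0 j = true → j = 2 by decide +kernel) j hj h2
    subst hj2
    obtain ⟨h, hh, he⟩ := hcls
    rw [← he, c.rep_two, hh.eq, mul_inv_cancel_right]
  refine ⟨core_central hz hiso, ?_⟩
  haveI : (Cfsg.oddCore G).Normal := Cores.pPrimeCore_normal 2 G
  have hoddO : ∀ r ∈ Cfsg.oddCore G, Odd (orderOf r) := fun r hr =>
    (Nat.coprime_two_right.1 (Cores.coprime_card_pPrimeCore 2)).of_dvd_nat (Subgroup.orderOf_dvd_natCard _ hr)
  have hR := c.eq_one_of_odd_normal (Cfsg.oddCore G ⊓ Subgroup.centralizer ({z} : Set G))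
    (fun r hr => Subgroup.mem_centralizer_singleton_iff.1 hr.2) (fun r hr => hoddO r hr.1)
    (fun r hr e he => ⟨Subgroup.Normal.conj_mem inferInstance r hr.1 e, Subgroup.mem_centralizer_singleton_iff.2
      (((he.mul_left (Subgroup.mem_centralizer_singleton_iff.1 hr.2)).mul_left he.inv_left).eq)⟩)
  refine ⟨⟨fun a b => Subtype.ext (Bender.inverts_comm (R := Cfsg.oddCore G) (t := z) ?_ ?_ ?_ a a.2 b b.2)⟩⟩
  · rw [Subgroup.normalizer_eq_top]; exact Subgroup.mem_top z
  · rw [← pow_two, ← hz, pow_orderOf_eq_one]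
  · intro x hx he
    have : x ∈ Cfsg.oddCore G ⊓ Subgroup.centralizer ({z} : Set G) :=
      ⟨hx, Subgroup.mem_centralizer_singleton_iff.2 (mul_inv_eq_iff_eq_mul.1 he).symm⟩
    rw [hR] at this
    exact this

end Coding

end Cfsg.Agent.AltTwelveCent
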