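import Cfsg.Agent.Lib.AltTwelveCent.Fusion
import Mathlib.GroupTheory.Perm.Fin
import Mathlib.Tactic.FinCases

/-
The automorphism `h ↦ h z ^ (parity of the permutation of the pairs)` of the centraliser.

* `twist` : on codes
* `Coding.twist` : the twisted coding
* `exists_pattern_normal` : a coding with pattern 0, 4 or 60
-/

set_option autoImplicit false
set_option maxRecDepth 20000

namespace Cfsg.Agent.AltTwelveCent

open Equiv

/-- Is the permutation of the pairs odd? -/
def oddPairs (d : ℕ) : Bool :=
  ((List.range 6).map fun i => ((List.range i).filter fun j => app d (2 * i) / 2 < app d (2 * j) / 2).length).sum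
    % 2 == 1

/-- The automorphism on codes. -/
def twist (d : ℕ) : ℕ := if oddPairs d then mul d zc else d

/-- Is the permutation odd? -/
def oddList (l : List ℕ) : Bool :=
  ((List.range 6).map fun i => ((List.range i).filter fun j => l.getD i 0 < l.getD j 0).length).sum % 2 == 1

theorem sign_oddList : ∀ σ : Perm (Fin 6), Perm.sign σ =
    if oddList ((List.finRange 6).map fun i => (σ i).val) then -1 else 1 := by
  decide +kernel

/-- The images of the pairs of a permutation commuting with `z0`. -/
def pairImg (p : Perm (Fin 12)) (i : Fin 6) : Fin 6 := ⟨(p ⟨2 * i.val, by omega⟩).val / 2, by omega⟩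

theorem pairImg_div {p : Perm (Fin 12)} (hp : p * z0 = z0 * p) (x : Fin 12) :
    (p x).val / 2 = (pairImg p ⟨x.val / 2, by omega⟩).val := by
  show _ = (p ⟨2 * (x.val / 2), _⟩).val / 2
  rcases Nat.mod_two_eq_zero_or_one x.val with h | h
  · exact congrArg (fun y => (p y).val / 2) (Fin.ext (by show x.val = 2 * (x.val / 2); omega))
  · have hx : x = z0 ⟨2 * (x.val / 2), by omega⟩ := Fin.ext (by
      rw [z0_apply, xor_one]; show x.val = 2 * (2 * (x.val / 2) / 2) + (1 - 2 * (x.val / 2) % 2); omega)
    conv_lhs => rw [hx, apply_xor hp, xor_one]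
    omega

theorem pairImg_mul {p q : Perm (Fin 12)} (hp : p * z0 = z0 * p) (i : Fin 6) :
    pairImg (p * q) i = pairImg p (pairImg q i) := Fin.ext (by
  show ((p * q) _).val / 2 = _
  rw [Perm.mul_apply, pairImg_div hp]
  rfl)

theorem oddPairs_pcode (p : Perm (Fin 12)) :
    oddPairs (pcode p) = oddList ((List.finRange 6).map fun i => (pairImg p i).val) := by
  have hg : ∀ i, i < 6 → ((List.finRange 6).map fun i => (pairImg p i).val).getD i 0 = app (pcode p) (2 * i) / 2 :=
    fun i hi => by
      rw [List.getD_eq_getElem _ _ (by simp; omega)]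
      simp only [List.getElem_map, List.getElem_finRange, pairImg, Fin.cast_mk]
      rw [← app_pcode p ⟨2 * i, by omega⟩]
  rw [oddPairs, oddList]
  congr 2
  refine congrArg List.sum (List.map_congr_left fun i hi => ?_)
  rw [List.mem_range] at hi
  refine congrArg List.length (List.filter_congr fun j hj => ?_)
  rw [List.mem_range] at hj
  rw [hg i hi, hg j (by omega)]

theorem oddPairs_mul {a b : ℕ} (ha : inH a = true) (hb : inH b = true) :
    oddPairs (mul a b) = xor (oddPairs a) (oddPairs b) := by
  obtain ⟨p, -, hp, rfl⟩ := exists_of_mem ha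
  obtain ⟨q, -, hq, rfl⟩ := exists_of_mem hb
  have hperm : ∀ {r : Perm (Fin 12)}, r * z0 = z0 * r → Function.Injective (pairImg r) := by
    intro r hr
    refine Function.HasLeftInverse.injective ⟨pairImg r⁻¹, fun i => ?_⟩
    have hr' : r⁻¹ * z0 = z0 * r⁻¹ := by
      calc r⁻¹ * z0 = r⁻¹ * (z0 * r) * r⁻¹ := by group
        _ = z0 * r⁻¹ := by rw [← hr]; group
    rw [← pairImg_mul hr', inv_mul_cancel]
    exact Fin.ext (by show (2 * i.val) / 2 = i.val; omega)
  let P := Equiv.ofBijective _ (Finite.injective_iff_bijective.1 (hperm hp))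
  let Q := Equiv.ofBijective _ (Finite.injective_iff_bijective.1 (hperm hq))
  have hP := sign_oddList P
  have hQ := sign_oddList Q
  have hPQ := sign_oddList (P * Q)
  rw [map_mul, hP, hQ] at hPQ
  have e : ((List.finRange 6).map fun i => ((P * Q) i).val) =
      (List.finRange 6).map fun i => (pairImg (p * q) i).val :=
    List.map_congr_left fun i _ => by rw [pairImg_mul hp]; rfl
  rw [e] at hPQ
  simp only [P, Q, Equiv.ofBijective_apply] at hPQ
  rw [← pcode_mul, oddPairs_pcode, oddPairs_pcode, oddPairs_pcode]
  revert hPQ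
  generalize oddList ((List.finRange 6).map fun i => (pairImg p i).val) = u
  generalize oddList ((List.finRange 6).map fun i => (pairImg q i).val) = v
  generalize oddList ((List.finRange 6).map fun i => (pairImg (p * q) i).val) = w
  revert u v w
  decide

theorem oddPairs_zc : oddPairs zc = false := by decide +kernel

/-- The class of the twisted representative. -/
def twistClass (j : ℕ) : ℕ := [0, 1, 2, 5, 4, 3, 6, 7, 9, 8].getD j 0

theorem check_twistClass : ((List.range 10).all fun j =>
    inH (wlist.getD (repIdx.getD j 0) 0) && inClass (twistClass j) (twist (wlist.getD (repIdx.getD j 0) 0))) = true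
    := by
  decide +kernel

namespace Coding

variable {G : Type*} [Group G] {z : G} (c : Coding z)
include c

theorem twist_code {a : G} (ha : Commute a z) :
    AltTwelveCent.twist (c.f a) = c.f (if oddPairs (c.f a) then a * z else a) := by
  unfold AltTwelveCent.twist
  split
  · rw [c.map_mul a z ha (Commute.refl z), c.map_z]
  · rfl

theorem twist_involutive {d : ℕ} (hd : inH d = true) :
    AltTwelveCent.twist (AltTwelveCent.twist d) = d := by
  obtain ⟨a, ha, rfl⟩ := c.surj d hd
  have hodd : oddPairs (c.f (a * z)) = oddPairs (c.f a) := by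
    rw [c.map_mul a z ha (Commute.refl z), c.map_z, oddPairs_mul hd (by decide +kernel), oddPairs_zc,
      Bool.xor_false]
  by_cases h : oddPairs (c.f a) = true
  · rw [c.twist_code ha, if_pos h, c.twist_code (ha.mul_left (Commute.refl z)), hodd, if_pos h, mul_assoc,
      ← pow_two, ← c.orderOf_z, pow_orderOf_eq_one, mul_one]
  · rw [c.twist_code ha, if_neg h, c.twist_code ha, if_neg h]

/-- The twisted coding. -/
noncomputable def twisted : Coding z where
  f a := AltTwelveCent.twist (c.f a)
  mem a ha := by
    rw [c.twist_code ha]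
    split
    · exact c.mem _ (ha.mul_left (Commute.refl z))
    · exact c.mem _ ha
  map_mul a b ha hb := by
    have hmul := c.map_mul a b ha hb
    have hodd := oddPairs_mul (c.mem a ha) (c.mem b hb)
    have hz : ∀ x : G, Commute x z → z * x = x * z := fun x hx => hx.eq.symm
    have z2 : z * z = 1 := by rw [← pow_two, ← c.orderOf_z, pow_orderOf_eq_one]
    rw [c.twist_code (ha.mul_left hb), c.twist_code ha, c.twist_code hb, hmul, hodd]
    have hab : ∀ {x y : G}, Commute x z → Commute y z → mul (c.f x) (c.f y) = c.f (x * y) :=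
      fun hx hy => (c.map_mul _ _ hx hy).symm
    cases hA : oddPairs (c.f a) <;> cases hB : oddPairs (c.f b) <;>
      simp only [Bool.xor_false, Bool.xor_true, Bool.false_xor, Bool.true_xor, Bool.not_false, Bool.not_true,
        Bool.false_eq_true, if_false, if_true]
    · rw [hab ha hb]
    · rw [hab ha (hb.mul_left (Commute.refl z)), mul_assoc]
    · rw [hab (ha.mul_left (Commute.refl z)) hb]
      congr 1
      rw [mul_assoc a z b, hz b hb, mul_assoc]
    · rw [hab (ha.mul_left (Commute.refl z)) (hb.mul_left (Commute.refl z))]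
      congr 1
      rw [mul_assoc a z, ← mul_assoc z b z, hz b hb, mul_assoc b, z2, mul_one]
  inj a b ha hb h := by
    have := congrArg AltTwelveCent.twist h
    rw [c.twist_involutive (c.mem a ha), c.twist_involutive (c.mem b hb)] at this
    exact c.inj a b ha hb this
  surj d hd := by
    obtain ⟨a, ha, rfl⟩ := c.surj d hd
    refine ⟨if oddPairs (c.f a) then a * z else a, ?_, ?_⟩
    · split
      · exact ha.mul_left (Commute.refl z)
      · exact ha
    · show AltTwelveCent.twist _ = _
      rw [← c.twist_code ha, c.twist_involutive hd]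
  map_z := by
    show AltTwelveCent.twist (c.f z) = zc
    rw [c.map_z]; decide +kernel

theorem twisted_el {d : ℕ} (hd : inH d = true) : c.twisted.el d = c.el (AltTwelveCent.twist d) := by
  have h1 : inH (AltTwelveCent.twist d) = true := by
    obtain ⟨a, ha, rfl⟩ := c.surj d hd
    rw [c.twist_code ha]
    exact c.mem _ (by split; exacts [ha.mul_left (Commute.refl z), ha])
  refine c.twisted.inj _ _ (c.twisted.el_comm d) (c.el_comm _) ?_
  rw [(c.twisted.el_spec hd).2]
  show d = AltTwelveCent.twist (c.f _)
  rw [(c.el_spec h1).2, c.twist_involutive hd]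

theorem twisted_pattern {f f' : ℕ} (hf : c.Pattern f)
    (h : ∀ j < 10, fused f (twistClass j) = fused f' j) : c.twisted.Pattern f' := by
  intro j hj
  have hk := List.all_eq_true.1 check_twistClass j (List.mem_range.2 hj)
  rw [Bool.and_eq_true] at hk
  have hlt : twistClass j < 10 := by revert j; decide
  have e : c.twisted.rep j = c.el (AltTwelveCent.twist (wlist.getD (repIdx.getD j 0) 0)) := c.twisted_el hk.1
  have hcls : c.InCls (twistClass j) (c.twisted.rep j) := by
    refine c.inCls_of_code hlt (c.twisted.w_comm _) ?_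
    rw [e]
    have h1 : inH (AltTwelveCent.twist (wlist.getD (repIdx.getD j 0) 0)) = true := by
      obtain ⟨a, ha, he⟩ := c.surj _ hk.1
      rw [← he, c.twist_code ha]
      exact c.mem _ (by split; exacts [ha.mul_left (Commute.refl z), ha])
    rw [(c.el_spec h1).2]
    exact hk.2
  rw [← h j hj, ← hf _ hlt]
  exact ⟨fun k => k.trans hcls.isConj.symm, fun k => k.trans hcls.isConj⟩

end Coding

/-- A coding with no fusion, with that of `Sp(6,2)`, or with that of `A₁₂`. -/
theorem exists_pattern_normal {G : Type*} [Group G] [Finite G] {z : G} (c : Coding z)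
    (hodd : ¬ 2 ∣ (Subgroup.centralizer ({z} : Set G)).index) :
    ∃ (c' : Coding z) (f : ℕ), f ∈ [0, 4, 60] ∧ c'.Pattern f := by
  obtain ⟨f, hf, hpat⟩ := c.exists_pattern hodd
  simp only [List.mem_cons, List.not_mem_nil, or_false] at hf
  rcases hf with rfl | rfl | rfl | rfl | rfl
  · exact ⟨c, 0, by simp, hpat⟩
  · exact ⟨c.twisted, 4, by simp, c.twisted_pattern hpat (by decide +kernel)⟩
  · exact ⟨c, 4, by simp, hpat⟩
  · exact ⟨c.twisted, 60, by simp, c.twisted_pattern hpat (by decide +kernel)⟩
  · exact ⟨c, 60, by simp, hpat⟩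

end Cfsg.Agent.AltTwelveCent
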